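import Cfsg.Agent.H57.SuzUniq.Rows

/-!
A bound on the automorphisms of the graph fixing a point.
-/

set_option autoImplicit false
set_option maxRecDepth 100000

namespace H57.SUZ

open H93 H93.Coset

/-- the automorphisms of the graph fixing 0 -/
def Aut0 : Subgroup (Equiv.Perm (Fin 1782)) where
  carrier := {σ | σ 0 = 0 ∧ ∀ x y, R0 (σ x) (σ y) ↔ R0 x y}
  one_mem' := ⟨rfl, fun _ _ => Iff.rfl⟩
  mul_mem' := fun ⟨a, a'⟩ ⟨b, b'⟩ =>
    ⟨by rw [Equiv.Perm.mul_apply, b, a], fun x y => (a' _ _).trans (b' x y)⟩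
  inv_mem' := fun {σ} ⟨a, a'⟩ => ⟨by rw [Equiv.Perm.inv_eq_iff_eq, a], fun x y => by
    conv_rhs => rw [← Equiv.apply_symm_apply σ x, ← Equiv.apply_symm_apply σ y, a']
    rfl⟩

/-- the key of a point: adjacency to 0 and to the chosen points -/
def keyA (x : ℕ) : ℕ := (autKey >>> (32 * x)) % 2 ^ 32

/-- the keys are the stated adjacencies -/
noncomputable def keyOK : Bool :=
  allRange 0 1782 fun x => (Nat.testBit (keyA x) 0 == Nat.testBit maskOne x) &&
    (List.range autSeq.length).all fun j =>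
      Nat.testBit (keyA x) (j + 1) == Nat.testBit (rowM (autSeq.getD j (0, 0)).1) x

/-- increasing keys -/
noncomputable def incrA : ℕ → List ℕ → Bool
  | _, [] => true
  | prev, c :: l => Nat.blt c 1782 && force (keyA c + 1) fun k => Nat.blt prev k && incrA k l

/-- the points fixed at a step -/
def prevA (k : ℕ) : List ℕ := 0 :: (autSeq.take k).map fun e => rowV e.1

/-- the points with the signature of the chosen point -/
noncomputable def candA (k x : ℕ) : Bool :=
  Nat.beq (keyA x % 2 ^ (k + 1)) (keyA (rowV (autSeq.getD k (0, 0)).1) % 2 ^ (k + 1)) &&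
    !((prevA k).any (Nat.beq x))

/-- the class sizes are as stated -/
noncomputable def stepA (k : ℕ) : Bool :=
  Nat.blt (autSeq.getD k (0, 0)).1 133 &&
    Nat.beq ((List.range 1782).countP fun x => candA k x) (autSeq.getD k (0, 0)).2 &&
    !((prevA k).any (Nat.beq (rowV (autSeq.getD k (0, 0)).1)))

theorem key_ok : keyOK = true := by decide +kernel

theorem incrA_ok : incrA 0 autOrder = true ∧ autOrder.length = 1782 := by decide +kernel

theorem stepA_ok : (List.range autSeq.length).all stepA = true := by decide +kernel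

theorem prodA_ok : (autSeq.map (·.2)).prod < 1782 * 251596800 := by decide +kernel

theorem incrA_spec : ∀ (l : List ℕ) (prev : ℕ), incrA prev l = true →
    (∀ c ∈ l, c < 1782 ∧ prev < keyA c + 1) ∧ (l.map keyA).Nodup := by
  intro l
  induction l with
  | nil => simp
  | cons c l ih =>
    intro prev h
    simp only [incrA, force_eq, Bool.and_eq_true, Data.blt_iff] at h
    obtain ⟨h1, h3, h4⟩ := h
    obtain ⟨i1, i2⟩ := ih _ h4
    refine ⟨fun d hd => ?_, ?_⟩
    · rcases List.mem_cons.mp hd with rfl | hd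
      · exact ⟨h1, h3⟩
      · obtain ⟨j1, j2⟩ := i1 d hd
        exact ⟨j1, lt_trans h3 j2⟩
    · rw [List.map_cons, List.nodup_cons]
      refine ⟨fun hm => ?_, i2⟩
      obtain ⟨d, hd, he⟩ := List.mem_map.mp hm
      have := (i1 d hd).2
      omega

theorem keyA_inj : Function.Injective fun x : Fin 1782 => keyA x.val := by
  obtain ⟨h1, h2⟩ := incrA_spec _ _ incrA_ok.1
  have hbound : (autOrder.map keyA).toFinset ⊆ Finset.univ.image fun x : Fin 1782 => keyA x.val := by
    intro y hy
    obtain ⟨c, hc, rfl⟩ := List.mem_map.mp (List.mem_toFinset.mp hy)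
    exact Finset.mem_image.mpr ⟨⟨c, (h1 c hc).1⟩, Finset.mem_univ _, rfl⟩
  have hle := Finset.card_le_card hbound
  rw [List.toFinset_card_of_nodup h2, List.length_map, incrA_ok.2] at hle
  intro a b h
  refine Finset.injOn_of_card_image_eq (s := Finset.univ) (f := fun x : Fin 1782 => keyA x.val) ?_
    (Finset.mem_univ a) (Finset.mem_univ b) h
  exact le_antisymm Finset.card_image_le (by simpa using hle)

/-- automorphisms fixing the first points -/
def fixA (k : ℕ) : Subgroup (Equiv.Perm (Fin 1782)) where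
  carrier := {σ | σ ∈ Aut0 ∧ ∀ c : Fin 1782, c.val ∈ prevA k → σ c = c}
  one_mem' := ⟨Aut0.one_mem, fun _ _ => rfl⟩
  mul_mem' := fun ⟨a, a'⟩ ⟨b, b'⟩ =>
    ⟨Aut0.mul_mem a b, fun c hc => by rw [Equiv.Perm.mul_apply, b' c hc, a' c hc]⟩
  inv_mem' := fun ⟨a, a'⟩ => ⟨Aut0.inv_mem a, fun c hc => by rw [Equiv.Perm.inv_eq_iff_eq, a' c hc]⟩

theorem key_bit_zero (x : Fin 1782) : Nat.testBit (keyA x.val) 0 = true ↔ R0 0 x := by
  have h := allRange_spec key_ok x.val (Nat.zero_le _) (by omega)
  simp only [Bool.and_eq_true, beq_iff_eq] at h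
  rw [h.1, R0_zero]
  exact mem_maskSet.symm

theorem key_bit_succ (x : Fin 1782) {j : ℕ} (hj : j < autSeq.length)
    (hv : rowV (autSeq.getD j (0, 0)).1 < 1782) :
    Nat.testBit (keyA x.val) (j + 1) = true ↔ R0 ⟨rowV (autSeq.getD j (0, 0)).1, hv⟩ x := by
  have h := allRange_spec key_ok x.val (Nat.zero_le _) (by omega)
  simp only [Bool.and_eq_true, beq_iff_eq, List.all_eq_true, List.mem_range] at h
  have hs := List.all_eq_true.mp stepA_ok j (List.mem_range.mpr hj)
  simp only [stepA, Bool.and_eq_true, Data.blt_iff] at hs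
  rw [h.2 j hj]
  exact ((row_spec _ hs.1.1).2 x).symm

theorem seq_lt {j : ℕ} (hj : j < autSeq.length) : rowV (autSeq.getD j (0, 0)).1 < 1782 := by
  have hs := List.all_eq_true.mp stepA_ok j (List.mem_range.mpr hj)
  simp only [stepA, Bool.and_eq_true, Data.blt_iff] at hs
  exact (row_spec _ hs.1.1).1

theorem mem_prevA {j k : ℕ} (hjk : j < k) (hj : j < autSeq.length) :
    rowV (autSeq.getD j (0, 0)).1 ∈ prevA k := by
  refine List.mem_cons_of_mem _ (List.mem_map.mpr ⟨autSeq.getD j (0, 0), ?_, rfl⟩)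
  rw [List.mem_take_iff_getElem]
  exact ⟨j, by omega, by rw [List.getD_eq_getElem _ _ hj]⟩

theorem key_mod {k : ℕ} (hk : k ≤ autSeq.length) {σ : Equiv.Perm (Fin 1782)} (hσ : σ ∈ fixA k)
    (x : Fin 1782) : keyA (σ x).val % 2 ^ (k + 1) = keyA x.val % 2 ^ (k + 1) := by
  refine Nat.eq_of_testBit_eq fun i => ?_
  rw [Nat.testBit_mod_two_pow, Nat.testBit_mod_two_pow]
  by_cases hi : i < k + 1
  · simp only [hi, decide_true, Bool.true_and]
    rw [Bool.eq_iff_iff]
    cases i with
    | zero =>
      rw [key_bit_zero, key_bit_zero]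
      conv_lhs => rw [← hσ.1.1]
      exact hσ.1.2 0 x
    | succ j =>
      have hj : j < autSeq.length := by omega
      rw [key_bit_succ _ hj (seq_lt hj), key_bit_succ _ hj (seq_lt hj)]
      conv_lhs => rw [← hσ.2 ⟨_, seq_lt hj⟩ (mem_prevA (by omega) hj)]
      exact hσ.1.2 _ x
  · simp [hi]

theorem countP_range (p : ℕ → Bool) (n : ℕ) :
    ((List.range n).countP p) = ((Finset.range n).filter fun x => p x = true).card := by
  rw [List.countP_eq_length_filter, ← List.toFinset_card_of_nodup ((List.nodup_range).filter _),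
    List.toFinset_filter, List.toFinset_range]

theorem fixA_step {k : ℕ} (hk : k < autSeq.length) :
    Nat.card (fixA k) ≤ (autSeq.getD k (0, 0)).2 * Nat.card (fixA (k + 1)) := by
  classical
  set v : Fin 1782 := ⟨_, seq_lt hk⟩ with hv
  have hs := List.all_eq_true.mp stepA_ok k (List.mem_range.mpr hk)
  simp only [stepA, Bool.and_eq_true, Nat.beq_eq, Bool.not_eq_true'] at hs
  obtain ⟨⟨-, hcnt⟩, hnew⟩ := hs
  have horb : Nat.card (MulAction.orbit (fixA k) v) ≤ (autSeq.getD k (0, 0)).2 := by
    rw [← hcnt, countP_range, ← Nat.card_eq_finsetCard]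
    refine Nat.card_le_card_of_injective (fun w => ⟨w.1.val, ?_⟩) (fun a b h => ?_)
    · obtain ⟨⟨σ, hσ⟩, hw⟩ : ∃ g : fixA k, g • v = w.1 := MulAction.mem_orbit_iff.mp w.2
      rw [← hw, show ((⟨σ, hσ⟩ : fixA k) • v) = σ v from rfl]
      refine Finset.mem_filter.mpr ⟨Finset.mem_range.mpr (σ v).isLt, ?_⟩
      rw [candA, Bool.and_eq_true, Nat.beq_eq, Bool.not_eq_true']
      refine ⟨key_mod (le_of_lt hk) hσ v, ?_⟩
      rw [← Bool.not_eq_true, List.any_eq_true]
      rintro ⟨c, hc, he⟩
      have he' : (σ v).val = c := Nat.beq_eq.mp he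
      have h1 : σ (σ v) = σ v := hσ.2 _ (he' ▸ hc)
      have h2 : (σ v).val = v.val := by rw [σ.injective h1]
      rw [← Bool.not_eq_true, List.any_eq_true] at hnew
      exact hnew ⟨c, hc, Nat.beq_eq.mpr (h2.symm.trans he')⟩
    · exact Subtype.ext (Fin.ext (Subtype.mk.injEq _ _ _ _ ▸ h))
  have hstab : Nat.card (MulAction.stabilizer (fixA k) v) ≤ Nat.card (fixA (k + 1)) := by
    refine Nat.card_le_card_of_injective (fun g => (⟨g.1.1, g.1.2.1, ?_⟩ : fixA (k + 1))) (fun a b h => ?_)
    · intro c hc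
      rw [prevA, List.take_succ_eq_append_getElem hk, List.map_append, List.map_singleton,
        ← List.cons_append, List.mem_append, List.mem_singleton] at hc
      rcases hc with hc | hc
      · exact g.1.2.2 c hc
      · rw [show c = v from Fin.ext (hc.trans (by rw [hv]; simp [List.getElem?_eq_getElem hk]))]
        exact g.2
    · exact Subtype.ext (Subtype.ext (congrArg (fun z : fixA (k + 1) => z.1) h :))
  calc Nat.card (fixA k) = Nat.card (MulAction.orbit (fixA k) v) * Nat.card (MulAction.stabilizer (fixA k) v) := by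
        rw [← Nat.card_prod]
        exact (Nat.card_congr (MulAction.orbitProdStabilizerEquivGroup (fixA k) v)).symm
    _ ≤ _ := Nat.mul_le_mul horb hstab

theorem fixA_last : fixA autSeq.length = ⊥ := by
  rw [Subgroup.eq_bot_iff_forall]
  intro σ hσ
  refine Equiv.ext fun x => ?_
  apply keyA_inj
  have h := key_mod le_rfl hσ x
  have hlt : ∀ y : Fin 1782, keyA y.val < 2 ^ (autSeq.length + 1) := by
    intro y
    have : ∀ y, y < 1782 → keyA y < 2 ^ (autSeq.length + 1) := fun y hy => by
      have h := allRange_spec (f := fun y => Nat.blt (keyA y) (2 ^ (autSeq.length + 1))) (lo := 0) (len := 1782)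
        (by decide +kernel) y (Nat.zero_le _) (by omega)
      exact Data.blt_iff.mp h
    exact this y.val y.2
  rw [Nat.mod_eq_of_lt (hlt _), Nat.mod_eq_of_lt (hlt _)] at h
  exact h

theorem fixA_le : ∀ j, j ≤ autSeq.length →
    Nat.card (fixA (autSeq.length - j)) ≤ ((autSeq.drop (autSeq.length - j)).map (·.2)).prod := by
  intro j
  induction j with
  | zero => intro _; simp [fixA_last]
  | succ j ih =>
    intro hj
    have hk : autSeq.length - (j + 1) < autSeq.length := by omega
    rw [List.drop_eq_getElem_cons hk, List.map_cons, List.prod_cons]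
    refine (fixA_step hk).trans ?_
    rw [List.getD_eq_getElem _ _ hk, show autSeq.length - (j + 1) + 1 = autSeq.length - j by omega]
    exact Nat.mul_le_mul le_rfl (ih (by omega))

/-- few automorphisms fix a point -/
theorem card_Aut0 : Nat.card Aut0 < 1782 * 251596800 := by
  refine lt_of_le_of_lt ?_ prodA_ok
  have h := fixA_le autSeq.length le_rfl
  rw [Nat.sub_self, List.drop_zero] at h
  refine le_trans (le_of_eq ?_) h
  suffices he : Aut0 = fixA 0 by rw [he]
  ext σ
  refine ⟨fun hσ => ⟨hσ, fun c hc => ?_⟩, fun hσ => hσ.1⟩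
  rw [show c = 0 from Fin.ext (by simpa [prevA] using hc)]
  exact hσ.1

end H57.SUZ
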