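import Mathlib
import Cfsg.Agent.H93.SuzOrder
import Cfsg.Agent.H93.CosetOrbit
import Cfsg.Agent.H92.Suz.G24Sub
import Cfsg.Agent.H57.SuzUniq.DataOrbit

/-!
The Suzuki group on 1782 points, evaluation of words, orbit certificates.
-/

set_option autoImplicit false
set_option maxRecDepth 100000

namespace H57.SUZ

open H93 H93.Coset

/-- the presented Suzuki group -/
abbrev S : Type := Cfsg.Spor.Suz

instance instFiniteS : Finite S := SuzOrder.card_le.1

/-- the action on 1782 points -/
noncomputable def π : S →* Equiv.Perm (Fin 1782) := SuzLG.fit.model.act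

/-- the element of a word, leftmost letter first -/
noncomputable abbrev el (w : List ℕ) : S := ev SuzOrder.gen w

/-- image of a point under a word -/
noncomputable def tgt (w : List ℕ) (c : ℕ) : ℕ := pathEnd SuzLG.tT w c

/-- all letters below a bound -/
def below (b : ℕ) (w : List ℕ) : Bool := w.all fun a => Nat.blt a b

theorem below_lt {b : ℕ} {w : List ℕ} (h : below b w = true) : ∀ a ∈ w, a < b := by
  intro a ha
  simpa [below, Data.blt_iff] using List.all_eq_true.mp h a ha

theorem below_mono {b b' : ℕ} (hb : b ≤ b') {w : List ℕ} (h : below b w = true) : below b' w = true := by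
  rw [below, List.all_eq_true]
  intro a ha
  simpa [Data.blt_iff] using lt_of_lt_of_le (below_lt h a ha) hb

theorem below_append {b : ℕ} {u v : List ℕ} :
    below b (u ++ v) = true ↔ below b u = true ∧ below b v = true := by
  simp [below, List.all_append]

theorem below_reverse {b : ℕ} {u : List ℕ} (h : below b u = true) : below b u.reverse = true := by
  simpa [below, List.all_reverse] using h

theorem below_flatten {b : ℕ} {L : List (List ℕ)} (h : ∀ w ∈ L, below b w = true) :
    below b L.flatten = true := by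
  rw [below, List.all_eq_true]
  intro a ha
  obtain ⟨w, hw, haw⟩ := List.mem_flatten.mp ha
  exact List.all_eq_true.mp (h w hw) a haw

theorem π_el (w : List ℕ) (hw : below 7 w = true) (c : Fin 1782) : (π (el w) c : ℕ) = tgt w c :=
  SuzLG.fit.model.act_ev w (below_lt hw) c

theorem el_append (u v : List ℕ) : el (u ++ v) = el v * el u := ev_append _ u v

theorem el_nil : el [] = 1 := rfl

theorem el_reverse {w : List ℕ} (hw : below 7 w = true) : el w.reverse = (el w)⁻¹ := by
  induction w with
  | nil => simp [el, ev]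
  | cons g w ih =>
    have hg : below 7 [g] = true ∧ below 7 w = true := below_append.mp (show below 7 ([g] ++ w) = true from hw)
    have h1 : el [g] = SuzOrder.gen g := by simp [el, ev]
    rw [List.reverse_cons, el_append, ih hg.2, h1, show el (g :: w) = el w * SuzOrder.gen g from rfl,
      mul_inv_rev, inv_eq_of_mul_eq_one_right (SuzLG.fit.model.inv g (below_lt hg.1 g (by simp)))]

theorem el_flatten_replicate (w : List ℕ) : ∀ k : ℕ, el (List.replicate k w).flatten = el w ^ k
  | 0 => by simp [el, ev]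
  | k + 1 => by rw [List.replicate_succ, List.flatten_cons, el_append, el_flatten_replicate w k, pow_succ]

/-- the points reached by a list of (child, parent, word index) -/
noncomputable def fill (ws : List (List ℕ)) : List (ℕ × ℕ × ℕ) → ℕ → ℕ
  | [], m => m
  | (c, p, k) :: l, m => force m fun m =>
      bif Nat.testBit m p && Nat.beq (tgt (ws.getD k []) p) c then fill ws l (m ||| 2 ^ c) else m

theorem fill_spec (ws : List (List ℕ)) (P : ℕ → Prop)
    (hP : ∀ w, (w = [] ∨ w ∈ ws) → ∀ p, P p → P (tgt w p)) :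
    ∀ (l : List (ℕ × ℕ × ℕ)) (m : ℕ), (∀ c, Nat.testBit m c = true → P c) →
      ∀ c, Nat.testBit (fill ws l m) c = true → P c := by
  intro l
  induction l with
  | nil => intro m h; exact h
  | cons a l ih =>
    obtain ⟨c0, p, k⟩ := a
    intro m h c
    rw [fill, force_eq]
    cases hb : (Nat.testBit m p && Nat.beq (tgt (ws.getD k []) p) c0)
    · exact h c
    · refine ih _ (fun c' hc' => ?_) c
      rw [Nat.testBit_lor, Bool.or_eq_true] at hc'
      rcases hc' with hc' | hc'
      · exact h c' hc'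
      · simp only [Nat.testBit_two_pow, decide_eq_true_eq] at hc'
        subst hc'
        simp only [Bool.and_eq_true, Nat.beq_eq] at hb
        rw [← hb.2]
        refine hP _ ?_ p (h p hb.1)
        rw [List.getD_eq_getElem?_getD]
        cases hk : ws[k]? with
        | none => exact Or.inl rfl
        | some w => exact Or.inr (List.mem_of_getElem? hk)

/-- points reached from `r` lie in the orbit of any subgroup holding the words -/
theorem fill_orbit {H : Subgroup S} {ws : List (List ℕ)} (hl : ws.all (below 7) = true)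
    (hH : ∀ w ∈ ws, el w ∈ H) (l : List (ℕ × ℕ × ℕ)) (r : Fin 1782) (c : Fin 1782)
    (hc : Nat.testBit (fill ws l (2 ^ r.val)) c.val = true) : ∃ x ∈ H, π x r = c := by
  suffices key : ∀ n, Nat.testBit (fill ws l (2 ^ r.val)) n = true → ∃ x ∈ H, (π x r : ℕ) = n by
    obtain ⟨x, hx, h⟩ := key c.val hc
    exact ⟨x, hx, Fin.ext h⟩
  refine fill_spec ws (fun n => ∃ x ∈ H, (π x r : ℕ) = n) ?_ l _ ?_
  · rintro w hw p ⟨x, hx, rfl⟩
    have hw7 : below 7 w = true := by
      rcases hw with rfl | hw
      · rfl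
      · exact List.all_eq_true.mp hl w hw
    have hwH : el w ∈ H := by
      rcases hw with rfl | hw
      · exact H.one_mem
      · exact hH w hw
    exact ⟨el w * x, H.mul_mem hwH hx, by rw [map_mul, Equiv.Perm.mul_apply, π_el w hw7]⟩
  · intro n hn
    rw [Nat.testBit_two_pow, decide_eq_true_eq] at hn
    exact ⟨1, H.one_mem, by rw [map_one, Equiv.Perm.one_apply, hn]⟩

/-- number of points of a mask -/
noncomputable def cntBits (m : ℕ) : ℕ := bitCount m 0 1782

/-- the points of a mask -/
def maskSet (m : ℕ) : Finset (Fin 1782) := Finset.univ.filter fun c => Nat.testBit m c.val = true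

theorem mem_maskSet {m : ℕ} {c : Fin 1782} : c ∈ maskSet m ↔ Nat.testBit m c.val = true := by
  simp [maskSet]

theorem card_maskSet (m : ℕ) : (maskSet m).card = cntBits m := by
  rw [cntBits, bitCount_eq, ← Finset.card_map Fin.valEmbedding]
  congr 1
  ext i
  simp only [Finset.mem_map, mem_maskSet, Fin.valEmbedding_apply, Finset.mem_filter, Finset.mem_Ico]
  exact ⟨fun ⟨c, hc, e⟩ => e ▸ ⟨⟨Nat.zero_le _, by omega⟩, hc⟩,
    fun ⟨⟨_, h2⟩, h⟩ => ⟨⟨i, by omega⟩, h, rfl⟩⟩

/-- the orbit of `r` under `H`, as a finset -/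
noncomputable def orb (H : Subgroup S) (r : Fin 1782) : Finset (Fin 1782) := by
  classical
  exact Finset.univ.filter fun c => ∃ x ∈ H, π x r = c

theorem mem_orb {H : Subgroup S} {r c : Fin 1782} : c ∈ orb H r ↔ ∃ x ∈ H, π x r = c := by
  classical
  simp [orb]

theorem maskSet_subset_orb {H : Subgroup S} {ws : List (List ℕ)} (hl : ws.all (below 7) = true)
    (hH : ∀ w ∈ ws, el w ∈ H) {l : List (ℕ × ℕ × ℕ)} {r : Fin 1782} {m : ℕ}
    (h : fill ws l (2 ^ r.val) = m) : maskSet m ⊆ orb H r := by
  intro c hc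
  rw [mem_maskSet, ← h] at hc
  exact mem_orb.mpr (fill_orbit hl hH l r c hc)

theorem fill_card_le {H : Subgroup S} {ws : List (List ℕ)} (hl : ws.all (below 7) = true)
    (hH : ∀ w ∈ ws, el w ∈ H) (l : List (ℕ × ℕ × ℕ)) (r : Fin 1782) :
    cntBits (fill ws l (2 ^ r.val)) ≤ (orb H r).card := by
  rw [← card_maskSet]
  exact Finset.card_le_card (maskSet_subset_orb hl hH rfl)

/-- the elements of `H` fixing a point -/
noncomputable def fixIn (H : Subgroup S) (r : Fin 1782) : Subgroup S :=
  H ⊓ (MulAction.stabilizer (Equiv.Perm (Fin 1782)) r).comap π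

theorem mem_fixIn {H : Subgroup S} {r : Fin 1782} {x : S} : x ∈ fixIn H r ↔ x ∈ H ∧ π x r = r := by
  simp [fixIn, Subgroup.mem_inf, MulAction.mem_stabilizer_iff, Equiv.Perm.smul_def]

theorem card_orb_mul (H : Subgroup S) (r : Fin 1782) :
    (orb H r).card * Nat.card (fixIn H r) = Nat.card H := by
  letI : MulAction S (Fin 1782) := MulAction.compHom _ π
  have ho : (orb H r : Set (Fin 1782)) = MulAction.orbit H r := by
    ext c
    simp only [Finset.mem_coe, mem_orb, MulAction.mem_orbit_iff]
    exact ⟨fun ⟨x, hx, e⟩ => ⟨⟨x, hx⟩, e⟩, fun ⟨⟨x, hx⟩, e⟩ => ⟨x, hx, e⟩⟩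
  have hf : Nat.card (MulAction.stabilizer H r) = Nat.card (fixIn H r) :=
    Nat.card_congr ⟨fun a => ⟨(a : H).1, mem_fixIn.mpr ⟨(a : H).2, a.2⟩⟩,
      fun a => ⟨⟨a.1, (mem_fixIn.mp a.2).1⟩, (mem_fixIn.mp a.2).2⟩, fun _ => rfl, fun _ => rfl⟩
  rw [← Set.ncard_coe_finset, ho, ← hf, ← Nat.card_coe_set_eq, ← Nat.card_prod]
  exact Nat.card_congr (MulAction.orbitProdStabilizerEquivGroup H r)

/-- the first six generators -/
noncomputable def M : Subgroup S := SuzOrder.K 6

theorem el_mem_M {w : List ℕ} (h : below 6 w = true) : el w ∈ M :=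
  ev_mem _ w fun g hg => Subgroup.subset_closure ⟨g, below_lt h g hg, rfl⟩

theorem card_S : Nat.card S = 448345497600 := SuzOrder.isSuz.2

theorem all_orbit : fill [[0], [1], [2], [3], [4], [5], [6]] treeAll (2 ^ 0) = 2 ^ 1782 - 1 := by
  decide +kernel

theorem transitive (c : Fin 1782) : ∃ x, π x 0 = c := by
  have h : c ∈ maskSet (2 ^ 1782 - 1) :=
    mem_maskSet.mpr (by rw [Nat.testBit_two_pow_sub_one]; simp)
  obtain ⟨x, -, hx⟩ := mem_orb.mp
    (maskSet_subset_orb (H := ⊤) (r := 0) (by decide +kernel) (fun w _ => Subgroup.mem_top _) all_orbit h)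
  exact ⟨x, hx⟩

theorem orb_top : orb ⊤ 0 = Finset.univ := by
  refine Finset.eq_univ_of_forall fun c => ?_
  obtain ⟨x, hx⟩ := transitive c
  exact mem_orb.mpr ⟨x, Subgroup.mem_top x, hx⟩

theorem gen_fix : ∀ g : Fin 6, tgt [g.val] 0 = 0 := by decide +kernel

theorem M_le_fix : M ≤ fixIn ⊤ 0 := by
  refine (Subgroup.closure_le _).mpr ?_
  rintro _ ⟨g, hg, rfl⟩
  refine mem_fixIn.mpr ⟨Subgroup.mem_top _, Fin.ext ?_⟩
  have hg' : g < 6 := hg
  rw [show SuzOrder.gen g = el [g] by simp [el, ev],
    π_el _ (by simp [below]; omega)]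
  exact gen_fix ⟨g, hg⟩

theorem M_eq_fix : M = fixIn ⊤ 0 := by
  refine Subgroup.eq_of_le_of_card_ge M_le_fix ?_
  have h := card_orb_mul ⊤ 0
  rw [orb_top, Finset.card_univ, Fintype.card_fin, Subgroup.card_top, card_S] at h
  have h2 : 251596800 ≤ Nat.card M := H92.Suz.card_K6
  omega

theorem mem_M {x : S} : x ∈ M ↔ π x 0 = 0 := by
  rw [M_eq_fix, mem_fixIn]
  simp

theorem card_M : Nat.card M = 251596800 := by
  have h := card_orb_mul ⊤ 0
  rw [orb_top, Finset.card_univ, Fintype.card_fin, Subgroup.card_top, card_S, ← M_eq_fix] at h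
  omega

theorem π_injective : Function.Injective π := by
  haveI := SuzOrder.isSuz.1
  rw [← MonoidHom.ker_eq_bot_iff]
  rcases (MonoidHom.normal_ker π).eq_bot_or_eq_top with h | h
  · exact h
  · exfalso
    obtain ⟨x, hx⟩ := transitive 1
    have : π x = 1 := by rw [← MonoidHom.mem_ker, h]; exact Subgroup.mem_top x
    rw [this, Equiv.Perm.one_apply] at hx
    exact absurd hx (by decide)

end H57.SUZ
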