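import Cfsg.Agent.H57.SuzUniq.SubJ
import Cfsg.Agent.H57.SuzUniq.DataGraph

/-!
The graph of valency 416 on the 1782 points.
-/

set_option autoImplicit false
set_option maxRecDepth 100000

namespace H57.SUZ

open H93 H93.Coset

/-- the point 44 -/
def pA : Fin 1782 := ⟨44, by norm_num⟩

/-- adjacency: the orbital of `(0, 44)` -/
def R0 (x y : Fin 1782) : Prop := ∃ s : S, π s 0 = x ∧ π s pA = y

theorem R0_smul (s : S) {x y : Fin 1782} : R0 (π s x) (π s y) ↔ R0 x y := by
  constructor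
  · rintro ⟨t, h1, h2⟩
    refine ⟨s⁻¹ * t, ?_, ?_⟩ <;>
      rw [map_mul, Equiv.Perm.mul_apply, map_inv, Equiv.Perm.inv_eq_iff_eq]
    exacts [h1, h2]
  · rintro ⟨t, rfl, rfl⟩
    exact ⟨s * t, by simp, by simp⟩

theorem R0_zero {y : Fin 1782} : R0 0 y ↔ y ∈ DOne := by
  rw [← orb_44, mem_orb]
  exact ⟨fun ⟨s, h1, h2⟩ => ⟨s, mem_M.mpr h1, h2⟩, fun ⟨s, h1, h2⟩ => ⟨s, mem_M.mp h1, h2⟩⟩

theorem swap_ok : below 7 swapW = true ∧ tgt swapW 0 = 44 ∧ tgt swapW 44 = 0 := by decide +kernel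

theorem R0_symm {x y : Fin 1782} (h : R0 x y) : R0 y x := by
  obtain ⟨s, rfl, rfl⟩ := h
  refine ⟨s * el swapW, ?_, ?_⟩ <;> rw [map_mul, Equiv.Perm.mul_apply] <;> congr 1 <;> apply Fin.ext <;>
    rw [π_el _ swap_ok.1]
  exacts [swap_ok.2.1, swap_ok.2.2]

theorem R0_ne {x y : Fin 1782} (h : R0 x y) : x ≠ y := by
  obtain ⟨s, rfl, rfl⟩ := h
  exact fun e => absurd ((π s).injective e) (by decide)

/-- the point of a row -/
def rowV (i : ℕ) : ℕ := (rowData.getD i (0, 0, 0, 0)).1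

/-- the mask of a row -/
def rowM (i : ℕ) : ℕ := (rowData.getD i (0, 0, 0, 0)).2.2.2

/-- one row follows from an earlier one -/
noncomputable def rowStep (i : ℕ) : Bool :=
  bif Nat.beq i 0 then Nat.beq (rowV i) 0 && Nat.beq (rowM i) maskOne
  else
    let e := rowData.getD i (0, 0, 0, 0)
    Nat.blt e.2.1 i && Nat.blt e.2.2.1 7 && Nat.beq (tgt [e.2.2.1] (rowV e.2.1)) (rowV i) &&
      force (rowM e.2.1) fun mp => allRange 0 1782 fun x =>
        Nat.testBit (rowM i) (tgt [e.2.2.1] x) == Nat.testBit mp x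

theorem rows_ok : (List.range 133).all rowStep = true := by decide +kernel

theorem row_spec : ∀ i < 133, ∃ h : rowV i < 1782, ∀ y : Fin 1782,
    R0 ⟨rowV i, h⟩ y ↔ Nat.testBit (rowM i) y.val = true := by
  intro i
  induction i using Nat.strong_induction_on with
  | _ i ih =>
    intro hi
    have hs := List.all_eq_true.mp rows_ok i (List.mem_range.mpr hi)
    by_cases h0 : i = 0
    · subst h0
      simp only [rowStep, show Nat.beq 0 0 = true from rfl, cond_true, Bool.and_eq_true, Nat.beq_eq] at hs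
      refine ⟨by omega, fun y => ?_⟩
      rw [hs.2, show (⟨rowV 0, _⟩ : Fin 1782) = 0 from Fin.ext hs.1, R0_zero]
      exact mem_maskSet
    · have hb : Nat.beq i 0 = false := by simpa [Nat.beq_eq, ← Bool.not_eq_true] using h0
      simp only [rowStep, hb, cond_false, force_eq, Bool.and_eq_true, Data.blt_iff, Nat.beq_eq] at hs
      obtain ⟨⟨⟨hp, hg⟩, hv⟩, hall⟩ := hs
      set e := rowData.getD i (0, 0, 0, 0)
      obtain ⟨hpl, hpr⟩ := ih e.2.1 hp (by omega)
      have hb7 : below 7 [e.2.2.1] = true := by simp [below, hg]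
      have hlt : rowV i < 1782 := by
        have h1 : ((π (el [e.2.2.1]) ⟨rowV e.2.1, hpl⟩ : Fin 1782) : ℕ) = tgt [e.2.2.1] (rowV e.2.1) :=
          π_el _ hb7 _
        have h2 := (π (el [e.2.2.1]) ⟨rowV e.2.1, hpl⟩).isLt
        omega
      have hv' : π (el [e.2.2.1]) ⟨rowV e.2.1, hpl⟩ = ⟨rowV i, hlt⟩ := Fin.ext ((π_el _ hb7 _).trans hv)
      refine ⟨hlt, fun y => ?_⟩
      rw [← hv']
      obtain ⟨x, rfl⟩ := (π (el [e.2.2.1])).surjective y
      rw [R0_smul, hpr x, π_el _ hb7]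
      have := allRange_spec hall x.val (Nat.zero_le _) (by omega)
      rw [beq_iff_eq] at this
      rw [this]

/-- the neighbours of a point -/
noncomputable def nbr (x : Fin 1782) : Finset (Fin 1782) := by
  classical
  exact Finset.univ.filter fun y => R0 x y

theorem mem_nbr {x y : Fin 1782} : y ∈ nbr x ↔ R0 x y := by
  classical
  simp [nbr]

theorem nbr_smul (s : S) (x : Fin 1782) : nbr (π s x) = (nbr x).image (π s) := by
  ext y
  obtain ⟨z, rfl⟩ := (π s).surjective y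
  rw [Finset.mem_image, mem_nbr, R0_smul]
  exact ⟨fun h => ⟨z, mem_nbr.mpr h, rfl⟩, fun ⟨w, hw, e⟩ => (π s).injective e ▸ mem_nbr.mp hw⟩

theorem nbr_zero : nbr 0 = DOne := by
  ext y
  rw [mem_nbr, R0_zero]

theorem card_nbr (x : Fin 1782) : (nbr x).card = 416 := by
  obtain ⟨s, rfl⟩ := transitive x
  rw [nbr_smul, Finset.card_image_of_injective _ (π s).injective, nbr_zero, card_DOne]

theorem maskSet_land (a b : ℕ) : maskSet (Nat.land a b) = maskSet a ∩ maskSet b := by
  ext c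
  rw [Finset.mem_inter, mem_maskSet, mem_maskSet, mem_maskSet]
  change Nat.testBit (a &&& b) c.val = true ↔ _
  rw [Nat.testBit_land, Bool.and_eq_true]

theorem maskSet_lor (a b : ℕ) : maskSet (Nat.lor a b) = maskSet a ∪ maskSet b := by
  ext c
  rw [Finset.mem_union, mem_maskSet, mem_maskSet, mem_maskSet]
  change Nat.testBit (a ||| b) c.val = true ↔ _
  rw [Nat.testBit_lor, Bool.or_eq_true]

theorem maskSet_zero : maskSet 0 = ∅ := by
  ext c
  simp [mem_maskSet]

theorem nbr_row {i : ℕ} (hi : i < 133) {x : Fin 1782} (hx : x.val = rowV i) : nbr x = maskSet (rowM i) := by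
  obtain ⟨h, hr⟩ := row_spec i hi
  ext y
  rw [mem_nbr, mem_maskSet, show x = ⟨rowV i, h⟩ from Fin.ext hx, hr]

end H57.SUZ
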