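import Cfsg.Agent.H57.SuzUniq.Words
import Cfsg.Agent.H57.SuzUniq.DataSub

/-!
Subgroups of index 416 of the point stabiliser are point stabilisers.
-/

set_option autoImplicit false
set_option maxRecDepth 100000

namespace H57.SUZ

open H93 H93.Coset

/-- closed under the first six generators -/
noncomputable def closedM (m : ℕ) : Bool :=
  allRange 0 1782 fun c => !(Nat.testBit m c) || (List.range 6).all fun g => Nat.testBit m (tgt [g] c)

theorem closedM_spec {m : ℕ} (h : closedM m = true) {x : S} (hx : x ∈ M) {c : Fin 1782}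
    (hc : Nat.testBit m c.val = true) : Nat.testBit m (π x c).val = true := by
  have : ∀ x ∈ M, ∀ c : Fin 1782, Nat.testBit m c.val = true → Nat.testBit m (π x c).val = true := by
    intro x hx
    refine Subgroup.closure_induction (p := fun x _ => ∀ c : Fin 1782,
      Nat.testBit m c.val = true → Nat.testBit m (π x c).val = true) ?_ ?_ ?_ ?_ hx
    · rintro _ ⟨g, hg, rfl⟩ c hc
      have hg' : g < 6 := hg
      rw [show SuzOrder.gen g = el [g] by simp [el, ev], π_el _ (by simp [below]; omega)]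
      have := allRange_spec h c.val (Nat.zero_le _) (by omega)
      simp only [hc, Bool.not_true, Bool.false_or, List.all_eq_true, List.mem_range] at this
      exact this g hg'
    · intro c hc; simpa using hc
    · intro a b _ _ ha hb c hc
      rw [map_mul, Equiv.Perm.mul_apply]
      exact ha _ (hb c hc)
    · intro a _ ha c hc
      have hset : (maskSet m).image (π a) = maskSet m := by
        refine Finset.eq_of_subset_of_card_le ?_ ?_
        · intro d hd
          obtain ⟨e, he, rfl⟩ := Finset.mem_image.mp hd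
          exact mem_maskSet.mpr (ha e (mem_maskSet.mp he))
        · rw [Finset.card_image_of_injective _ (π a).injective]
      have h1 : c ∈ (maskSet m).image (π a) := hset.symm ▸ mem_maskSet.mpr hc
      obtain ⟨d, hd, rfl⟩ := Finset.mem_image.mp h1
      rw [map_inv, Equiv.Perm.inv_eq_iff_eq.mpr rfl]
      exact mem_maskSet.mp hd
  exact this x hx c hc

theorem orb_eq_maskSet {ws : List (List ℕ)} (hl : ws.all (below 6) = true) {l : List (ℕ × ℕ × ℕ)}
    {r : Fin 1782} {m : ℕ} (h : fill ws l (2 ^ r.val) = m) (hc : closedM m = true)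
    (hr : Nat.testBit m r.val = true) : orb M r = maskSet m := by
  refine Finset.Subset.antisymm (fun d hd => ?_) (maskSet_subset_orb
    (List.all_eq_true.mpr fun w hw => below_mono (by norm_num) (List.all_eq_true.mp hl w hw))
    (fun w hw => el_mem_M (List.all_eq_true.mp hl w hw)) h)
  obtain ⟨x, hx, rfl⟩ := mem_orb.mp hd
  exact mem_maskSet.mpr (closedM_spec hc hx hr)

/-- the orbit of length 416 -/
def DOne : Finset (Fin 1782) := maskSet maskOne

/-- the orbit of length 1365 -/
def DTwo : Finset (Fin 1782) := maskSet maskTwo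

/-- the base point of the orbit of length 416 -/
def dR : Fin 1782 := ⟨184, by norm_num⟩

/-- the base point of the orbit of length 1365 -/
def eR : Fin 1782 := ⟨1, by norm_num⟩

theorem mask_ok : closedM maskOne = true ∧ closedM maskTwo = true ∧
    fill [[0], [1], [2], [4], [5], [3]] mGT0 (2 ^ 44) = maskOne ∧
    fill [[0], [1], [2], [3], [4], [5]] treeTwo (2 ^ 1) = maskTwo ∧
    cntBits maskOne = 416 ∧ cntBits maskTwo = 1365 ∧
    Nat.testBit maskOne 44 = true ∧ Nat.testBit maskOne 184 = true ∧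
    Nat.testBit maskTwo 1 = true ∧ Nat.land maskOne maskTwo = 0 ∧
    Nat.testBit maskOne 0 = false ∧ Nat.testBit maskTwo 0 = false := by
  decide +kernel

theorem orb_44 : orb M ⟨44, by norm_num⟩ = DOne :=
  orb_eq_maskSet (ws := [[0], [1], [2], [4], [5], [3]]) (r := ⟨44, by norm_num⟩) (by decide) mask_ok.2.2.1 mask_ok.1
    mask_ok.2.2.2.2.2.2.1

theorem orb_eR : orb M eR = DTwo :=
  orb_eq_maskSet (ws := [[0], [1], [2], [3], [4], [5]]) (r := eR) (by decide) mask_ok.2.2.2.1 mask_ok.2.1
    mask_ok.2.2.2.2.2.2.2.2.1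

theorem card_DOne : DOne.card = 416 := (card_maskSet _).trans mask_ok.2.2.2.2.1

theorem card_DTwo : DTwo.card = 1365 := (card_maskSet _).trans mask_ok.2.2.2.2.2.1

theorem dR_mem : dR ∈ DOne := mem_maskSet.mpr mask_ok.2.2.2.2.2.2.2.1

theorem orb_trans {H : Subgroup S} {r s : Fin 1782} (h : s ∈ orb H r) : orb H s = orb H r := by
  obtain ⟨x, hx, rfl⟩ := mem_orb.mp h
  ext c
  simp only [mem_orb]
  constructor
  · rintro ⟨y, hy, rfl⟩
    exact ⟨y * x, H.mul_mem hy hx, by simp⟩
  · rintro ⟨y, hy, rfl⟩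
    exact ⟨y * x⁻¹, H.mul_mem hy (H.inv_mem hx), by simp⟩

theorem orb_dR : orb M dR = DOne := by
  rw [← orb_44]
  exact orb_trans (orb_44.symm ▸ dR_mem)

theorem DOne_inv {x : S} (hx : x ∈ M) {c : Fin 1782} (hc : c ∈ DOne) : π x c ∈ DOne :=
  mem_maskSet.mpr (closedM_spec mask_ok.1 hx (mem_maskSet.mp hc))

theorem DTwo_inv {x : S} (hx : x ∈ M) {c : Fin 1782} (hc : c ∈ DTwo) : π x c ∈ DTwo :=
  mem_maskSet.mpr (closedM_spec mask_ok.2.1 hx (mem_maskSet.mp hc))

theorem card_fix_dR : Nat.card (fixIn M dR) = 604800 := by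
  have h := card_orb_mul M dR
  rw [orb_dR, card_DOne, card_M] at h
  omega

theorem card_fix_eR : Nat.card (fixIn M eR) = 184320 := by
  have h := card_orb_mul M eR
  rw [orb_eR, card_DTwo, card_M] at h
  omega

theorem fix_conj {m : S} (hm : m ∈ M) (r : Fin 1782) :
    (fixIn M r).map (MulAut.conj m).toMonoidHom = fixIn M (π m r) := by
  ext x
  rw [Subgroup.mem_map_equiv, MulAut.conj_symm_apply, mem_fixIn, mem_fixIn]
  refine and_congr ⟨fun h => ?_, fun h => M.mul_mem (M.mul_mem (M.inv_mem hm) h) hm⟩ ?_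
  · have := M.mul_mem (M.mul_mem hm h) (M.inv_mem hm)
    rwa [show m * (m⁻¹ * x * m) * m⁻¹ = x by group] at this
  · rw [map_mul, map_mul, map_inv, Equiv.Perm.mul_apply, Equiv.Perm.mul_apply, Equiv.Perm.inv_eq_iff_eq]

/-- a subgroup of `p`-power order moves into any subgroup of `M` with the full `p`-part -/
theorem exists_conj_mem {p k : ℕ} [Fact p.Prime] {Q X : Subgroup S} (hQ : Q ≤ M) (hX : X ≤ M)
    (hp : IsPGroup p Q) (hk : Nat.factorization 251596800 p = k) (hd : p ^ k ∣ Nat.card X) :
    ∃ m ∈ M, ∀ q ∈ Q, m * q * m⁻¹ ∈ X := by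
  obtain ⟨R, hR⟩ := Sylow.exists_subgroup_card_pow_prime (G := X) p hd
  let R' : Subgroup M := ((R.map X.subtype)).subgroupOf M
  have hle : R.map X.subtype ≤ M := le_trans (Subgroup.map_subtype_le R) hX
  have hR' : Nat.card R' = p ^ Nat.factorization (Nat.card M) p := by
    rw [card_M, hk, Nat.card_congr (Subgroup.subgroupOfEquivOfLe hle).toEquiv,
      ← Nat.card_congr (R.equivMapOfInjective _ X.subtype_injective).toEquiv, hR]
  let T : Sylow p M := Sylow.ofCard R' hR'
  have hQ' : IsPGroup p (Q.subgroupOf M) := hp.of_equiv (Subgroup.subgroupOfEquivOfLe hQ).symm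
  obtain ⟨U, hU⟩ := hQ'.exists_le_sylow
  obtain ⟨g, hg⟩ := MulAction.exists_smul_eq M U T
  refine ⟨g.1, g.2, fun q hq => ?_⟩
  have h1 : (⟨q, hQ hq⟩ : M) ∈ U.1 := hU (Subgroup.mem_subgroupOf.mpr hq)
  have h2 : MulAut.conj g • (⟨q, hQ hq⟩ : M) ∈ T.1 := by
    rw [← hg]
    exact Subgroup.smul_mem_pointwise_smul _ _ _ h1
  have h3 : g.1 * q * g.1⁻¹ ∈ R.map X.subtype := Subgroup.mem_subgroupOf.mp h2
  exact Subgroup.map_subtype_le R h3

theorem isPGroup_pGens : IsPGroup 5 (gensSub pGens) := by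
  haveI : Fact (Nat.Prime 5) := ⟨by norm_num⟩
  have h := pc_isPGroup' (p := 5) (ls := pPc) (by decide +kernel)
  rwa [show pPc.map (·.1) = pGens from rfl] at h

theorem pGens_ok : pGens.all (fun w => below 6 w && Nat.beq (tgt w 184) 184) = true ∧
    pEls.all (fun q => eqW q.2 ((List.replicate q.1.1 (pGens.getD 0 [])).flatten ++
      (List.replicate q.1.2 (pGens.getD 1 [])).flatten)) = true := by
  decide +kernel

theorem pGens_le : gensSub pGens ≤ fixIn M dR := by
  refine gensSub_le fun w hw => ?_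
  have h := List.all_eq_true.mp pGens_ok.1 w hw
  rw [Bool.and_eq_true, Nat.beq_eq] at h
  refine mem_fixIn.mpr ⟨el_mem_M h.1, Fin.ext ?_⟩
  rw [π_el _ (below_mono (by norm_num) h.1)]
  exact h.2

/-- the words of `P` -/
def pW (a : ℕ) : List ℕ := (pEls.getD a ((0, 0), [])).2

theorem pW_spec (a : ℕ) : below 6 (pW a) = true ∧ el (pW a) ∈ gensSub pGens := by
  rw [pW, List.getD_eq_getElem?_getD]
  cases ha : pEls[a]? with
  | none => exact ⟨rfl, Subgroup.one_mem _⟩
  | some q =>
    have h := List.all_eq_true.mp pGens_ok.2 q (List.mem_of_getElem? ha)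
    refine ⟨(eqW_below h).1, ?_⟩
    show el q.2 ∈ _
    rw [eqW_el h, el_append, el_flatten_replicate, el_flatten_replicate]
    exact Subgroup.mul_mem _ (Subgroup.pow_mem _ (el_mem_gensSub (by decide)) _)
      (Subgroup.pow_mem _ (el_mem_gensSub (by decide)) _)

/-- conjugator, word and coset list of a representative -/
def repT (r : ℕ) : List ℕ × List ℕ × List ℕ := reps.getD r ([], [], [])

/-- the word of a class element -/
def lW (r a : ℕ) : List ℕ := pW a ++ (repT r).2.1 ++ (pW a).reverse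

theorem rep_ok : (List.range 176).all (fun r => below 6 (repT r).1 &&
    eqW (repT r).2.1 ((repT r).1.reverse ++ zW ++ (repT r).1)) = true ∧ below 6 zW = true := by
  decide +kernel

theorem rep_spec {r : ℕ} (hr : r < 176) : below 6 (repT r).1 = true ∧ below 6 (repT r).2.1 = true ∧
    el (repT r).2.1 = el (repT r).1 * el zW * (el (repT r).1)⁻¹ := by
  have h := List.all_eq_true.mp rep_ok.1 r (List.mem_range.mpr hr)
  rw [Bool.and_eq_true] at h
  refine ⟨h.1, (eqW_below h.2).1, ?_⟩
  rw [eqW_el h.2, el_append, el_append, el_reverse (below_mono (by norm_num) h.1), mul_assoc]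

theorem el_lW {r : ℕ} (a : ℕ) :
    el (lW r a) = (el (pW a))⁻¹ * el (repT r).2.1 * el (pW a) := by
  rw [lW, el_append, el_append, el_reverse (below_mono (by norm_num) (pW_spec a).1), mul_assoc]

/-- the conjugates of `z` in `M` -/
def InCls (x : S) : Prop := ∃ m ∈ M, x = m * el zW * m⁻¹

theorem lW_inCls {r : ℕ} (hr : r < 176) (a : ℕ) : InCls (el (lW r a)) := by
  obtain ⟨h1, -, h3⟩ := rep_spec hr
  refine ⟨(el (pW a))⁻¹ * el (repT r).1,
    M.mul_mem (M.inv_mem (el_mem_M (pW_spec a).1)) (el_mem_M h1), ?_⟩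
  rw [el_lW, h3]
  group

/-- the packed images of the base -/
noncomputable def keyW (w : List ℕ) : ℕ := base.foldr (fun b acc => tgt w b + 2048 * acc) 0

/-- the word of a coded class element -/
def codeW (code : ℕ) : List ℕ := lW (code / 32) ((repT (code / 32)).2.2.getD (code % 32) 0)

/-- strictly increasing keys -/
noncomputable def incr : ℕ → List ℕ → Bool
  | _, [] => true
  | prev, c :: l => Nat.blt (c / 32) 176 && below 7 (codeW c) &&
      force (keyW (codeW c) + 1) fun k => Nat.blt prev k && incr k l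

theorem incr_spec : ∀ (l : List ℕ) (prev : ℕ), incr prev l = true →
    (∀ c ∈ l, c / 32 < 176 ∧ below 7 (codeW c) = true ∧ prev < keyW (codeW c) + 1) ∧
      (l.map fun c => keyW (codeW c)).Nodup := by
  intro l
  induction l with
  | nil => simp
  | cons c l ih =>
    intro prev h
    simp only [incr, force_eq, Bool.and_eq_true, Data.blt_iff] at h
    obtain ⟨⟨h1, h2⟩, h3, h4⟩ := h
    obtain ⟨i1, i2⟩ := ih _ h4
    refine ⟨fun d hd => ?_, ?_⟩
    · rcases List.mem_cons.mp hd with rfl | hd
      · exact ⟨h1, h2, h3⟩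
      · obtain ⟨j1, j2, j3⟩ := i1 d hd
        exact ⟨j1, j2, lt_trans h3 j3⟩
    · rw [List.map_cons, List.nodup_cons]
      refine ⟨fun hm => ?_, i2⟩
      obtain ⟨d, hd, he⟩ := List.mem_map.mp hm
      have := (i1 d hd).2.2
      omega

theorem order_ok : incr 0 classOrder = true ∧ classOrder.length = 4160 := by decide +kernel

theorem cZ_ok : chOK cZChain [] = true ∧ chProd cZChain = 60480 ∧
    cZChain.all (fun L => L.2.1.all fun w => eqW (w ++ zW) (zW ++ w)) = true := by
  decide +kernel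

/-- the centraliser of `z` in `M` -/
noncomputable def Cz : Subgroup S := M ⊓ Subgroup.centralizer {el zW}

theorem card_Cz : 60480 ≤ Nat.card Cz := by
  obtain ⟨h1, h2, h3⟩ := cZ_ok
  have h := chain_le Cz cZChain [] h1 (fun L hL w hw => by
    refine Subgroup.mem_inf.mpr ⟨chain_mem_of_ok _ _ h1 L hL w hw, ?_⟩
    rw [Subgroup.mem_centralizer_singleton_iff]
    have h4 := eqW_el (List.all_eq_true.mp (List.all_eq_true.mp h3 L hL) w hw)
    rw [el_append, el_append] at h4
    exact h4.symm)
  rw [h2] at h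
  have h5 : Nat.card (fixL Cz []) ≤ Nat.card Cz :=
    Nat.le_of_dvd Nat.card_pos (Subgroup.card_dvd_of_le fun a ha => ha.1)
  exact le_trans (le_trans (Nat.le_mul_of_pos_right _ Nat.card_pos) h) h5

theorem exists_code {x : S} (hx : InCls x) : ∃ c ∈ classOrder, x = el (codeW c) := by
  classical
  haveI : Fintype S := Fintype.ofFinite S
  let CL : Finset S := Finset.univ.filter InCls
  let LS : Finset S := (classOrder.map fun c => el (codeW c)).toFinset
  obtain ⟨hc, hnd⟩ := incr_spec _ _ order_ok.1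
  have hLS : LS.card = 4160 := by
    rw [List.toFinset_card_of_nodup, List.length_map, order_ok.2]
    refine List.Nodup.of_map (fun s : S => base.foldr (fun b acc => (π s (Fin.ofNat 1782 b)).val + 2048 * acc) 0) ?_
    rw [List.map_map]
    refine (List.Nodup.map_on ?_ (List.Nodup.of_map _ hnd))
    intro c h1 d h2 e
    refine List.inj_on_of_nodup_map hnd h1 h2 ?_
    have key : ∀ c ∈ classOrder, ∀ l : List ℕ, (∀ b ∈ l, b < 1782) →
        l.foldr (fun b acc => (π (el (codeW c)) (Fin.ofNat 1782 b)).val + 2048 * acc) 0 =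
          l.foldr (fun b acc => tgt (codeW c) b + 2048 * acc) 0 := by
      intro c hcm l
      induction l with
      | nil => intro _; rfl
      | cons b l ih =>
        intro hl
        have hb := hl b List.mem_cons_self
        rw [List.foldr_cons, List.foldr_cons, ih fun a ha => hl a (List.mem_cons_of_mem _ ha),
          π_el _ (hc c hcm).2.1, show ((Fin.ofNat 1782 b : Fin 1782) : ℕ) = b from Nat.mod_eq_of_lt hb]
    simp only [Function.comp] at e
    rwa [key c h1 base base_lt, key d h2 base base_lt] at e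
  have hsub : LS ⊆ CL := by
    intro y hy
    obtain ⟨c, hcm, rfl⟩ := List.mem_map.mp (List.mem_toFinset.mp hy)
    exact Finset.mem_filter.mpr ⟨Finset.mem_univ _, lW_inCls (hc c hcm).1 _⟩
  have hCL : CL.card ≤ 4160 := by
    have hinj : ∀ y ∈ CL, ∃ m : M, y = (m : S) * el zW * (m : S)⁻¹ := fun y hy => by
      obtain ⟨m, hm, e⟩ := (Finset.mem_filter.mp hy).2
      exact ⟨⟨m, hm⟩, e⟩
    choose m hm using hinj
    have hle : Nat.card CL ≤ (Cz.subgroupOf M).index := by
      rw [Subgroup.index]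
      refine Nat.card_le_card_of_injective (fun y => (QuotientGroup.mk (m y.1 y.2) : M ⧸ Cz.subgroupOf M)) ?_
      intro y y' h
      rw [QuotientGroup.eq, Subgroup.mem_subgroupOf, Cz, Subgroup.mem_inf,
        Subgroup.mem_centralizer_singleton_iff] at h
      apply Subtype.ext
      rw [hm y.1 y.2, hm y'.1 y'.2]
      have h2 := h.2
      simp only [Subgroup.coe_mul, Subgroup.coe_inv] at h2
      calc (m y.1 y.2 : S) * el zW * (m y.1 y.2 : S)⁻¹
          = (m y.1 y.2 : S) * (el zW * ((m y.1 y.2 : S)⁻¹ * m y'.1 y'.2)) * (m y'.1 y'.2 : S)⁻¹ := by group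
        _ = (m y.1 y.2 : S) * (((m y.1 y.2 : S)⁻¹ * m y'.1 y'.2) * el zW) * (m y'.1 y'.2 : S)⁻¹ := by rw [h2]
        _ = _ := by group
    rw [Nat.card_eq_fintype_card, Fintype.card_coe] at hle
    have h1 : Nat.card (Cz.subgroupOf M) * (Cz.subgroupOf M).index = 251596800 :=
      (Subgroup.card_mul_index _).trans card_M
    rw [Nat.card_congr (Subgroup.subgroupOfEquivOfLe (show Cz ≤ M from inf_le_left)).toEquiv] at h1
    have h2 := card_Cz
    by_contra hlt
    have : 60480 * 4161 ≤ 251596800 := h1 ▸ Nat.mul_le_mul h2 (by omega)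
    omega
  have heq : LS = CL := Finset.eq_of_subset_of_card_le hsub (hLS ▸ hCL)
  have : x ∈ LS := heq ▸ Finset.mem_filter.mpr ⟨Finset.mem_univ _, hx⟩
  obtain ⟨c, hcm, e⟩ := List.mem_map.mp (List.mem_toFinset.mp this)
  exact ⟨c, hcm, e.symm⟩

/-- the certificate of one representative -/
noncomputable def caseOK (r : ℕ) : Bool :=
  let rep := repT r
  let cert := caseCert.getD r ([], [], [])
  bif Nat.beq (tgt rep.2.1 184) 184 then
    Nat.ble cert.2.2.length 6 && cert.2.2.all (fun y => Nat.beq y 184 || Nat.testBit j315M y) &&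
      allRange 0 1782 fun y => !(Nat.testBit maskOne y) || cert.2.2.any (Nat.beq y) ||
        rep.2.2.any fun a => !(Nat.beq (tgt (lW r a) y) y)
  else
    eqW cert.2.1 (comp (pGens ++ [rep.2.1]) cert.1) &&
      eqW (List.replicate 13 cert.2.1).flatten [] && !(eqW cert.2.1 [])

theorem case_ok : (List.range 176).all caseOK = true := by decide +kernel

theorem j_ok : jWords.all (fun w => below 6 w && Nat.beq (tgt w 184) 184) = true ∧
    fill jWords j315T (2 ^ j315R) = j315M ∧ fill jWords j100T (2 ^ j100R) = j100M ∧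
    cntBits j315M = 315 ∧ cntBits j100M = 100 ∧
    Nat.lor (Nat.lor j315M j100M) (2 ^ 184) = maskOne ∧ Nat.testBit j100M 184 = false ∧
    Nat.testBit j315M 184 = false ∧ j315R < 1782 ∧ j100R < 1782 := by
  decide +kernel

theorem transitive_piece {b : Fin 1782} {ws : List (List ℕ)}
    (hws : ws.all (fun w => below 6 w && Nat.beq (tgt w b.val) b.val) = true) {l : List (ℕ × ℕ × ℕ)}
    {m r : ℕ} (hr : r < 1782) (hfill : fill ws l (2 ^ r) = m) {c : Fin 1782}
    (hc : Nat.testBit m c.val = true) : maskSet m ⊆ orb (fixIn M b) c := by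
  have hsub : maskSet m ⊆ orb (fixIn M b) ⟨r, hr⟩ := by
    refine maskSet_subset_orb (List.all_eq_true.mpr fun w hw => ?_) (fun w hw => ?_) hfill
    · have := List.all_eq_true.mp hws w hw
      rw [Bool.and_eq_true] at this
      exact below_mono (by norm_num) this.1
    · have := List.all_eq_true.mp hws w hw
      rw [Bool.and_eq_true, Nat.beq_eq] at this
      exact mem_fixIn.mpr ⟨el_mem_M this.1,
        Fin.ext ((π_el _ (below_mono (by norm_num) this.1) _).trans this.2)⟩
  exact orb_trans (hsub (mem_maskSet.mpr hc)) ▸ hsub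

theorem mem_DOne_cases {c : Fin 1782} (hc : c ∈ DOne) :
    c = dR ∨ Nat.testBit j315M c.val = true ∨ Nat.testBit j100M c.val = true := by
  have h := mem_maskSet.mp hc
  rw [← j_ok.2.2.2.2.2.1] at h
  change Nat.testBit ((j315M ||| j100M) ||| 2 ^ 184) c.val = true at h
  rw [Nat.testBit_lor, Nat.testBit_lor, Bool.or_eq_true, Bool.or_eq_true, Nat.testBit_two_pow,
    decide_eq_true_eq] at h
  rcases h with (h | h) | h
  · exact Or.inr (Or.inl h)
  · exact Or.inr (Or.inr h)
  · exact Or.inl (Fin.ext h.symm)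

theorem orb_j315 {c : Fin 1782} (hc : Nat.testBit j315M c.val = true) :
    orb (fixIn M dR) c = maskSet j315M := by
  have h := transitive_piece (b := dR) j_ok.1 j_ok.2.2.2.2.2.2.2.2.1 j_ok.2.1 hc
  refine (Finset.Subset.antisymm (fun x hx => ?_) h)
  by_contra hne
  obtain ⟨g, hg, rfl⟩ := mem_orb.mp hx
  have hD : c ∈ DOne := by
    refine mem_maskSet.mpr ?_
    rw [← j_ok.2.2.2.2.2.1]
    change Nat.testBit ((j315M ||| j100M) ||| 2 ^ 184) c.val = true
    simp [hc]
  have hg' := mem_fixIn.mp hg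
  rcases mem_DOne_cases (DOne_inv hg'.1 hD) with h1 | h1 | h1
  · have : c = dR := (π g).injective (h1.trans hg'.2.symm)
    rw [this] at hc
    rw [show (dR : Fin 1782).val = 184 from rfl, j_ok.2.2.2.2.2.2.2.1] at hc
    exact Bool.false_ne_true hc
  · exact hne (mem_maskSet.mpr h1)
  · have h2 := orb_trans (s := π g c) hx
    have h3 := transitive_piece (b := dR) j_ok.1 j_ok.2.2.2.2.2.2.2.2.2 j_ok.2.2.1 h1
    rw [h2] at h3
    have h4 : maskSet j315M ∪ maskSet j100M ⊆ orb (fixIn M dR) c := Finset.union_subset h h3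
    have h5 : (orb (fixIn M dR) c) ⊆ DOne.erase dR := by
      intro y hy
      obtain ⟨u, hu, rfl⟩ := mem_orb.mp hy
      have hu' := mem_fixIn.mp hu
      refine Finset.mem_erase.mpr ⟨fun e => ?_, DOne_inv hu'.1 hD⟩
      have : c = dR := (π u).injective (e.trans hu'.2.symm)
      rw [this, show (dR : Fin 1782).val = 184 from rfl, j_ok.2.2.2.2.2.2.2.1] at hc
      exact Bool.false_ne_true hc
    have h6 : DOne.erase dR ⊆ maskSet j315M ∪ maskSet j100M := by
      intro y hy
      obtain ⟨hy1, hy2⟩ := Finset.mem_erase.mp hy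
      rcases mem_DOne_cases hy2 with h | h | h
      · exact absurd h hy1
      · exact Finset.mem_union_left _ (mem_maskSet.mpr h)
      · exact Finset.mem_union_right _ (mem_maskSet.mpr h)
    have h7 : orb (fixIn M dR) c = DOne.erase dR := Finset.Subset.antisymm h5 (h6.trans h4)
    have h8 := card_orb_mul (fixIn M dR) c
    rw [h7, Finset.card_erase_of_mem dR_mem, card_DOne, card_fix_dR] at h8
    omega

theorem card_fix_two {c : Fin 1782} (hc : Nat.testBit j315M c.val = true) :
    Nat.card (fixIn (fixIn M dR) c) = 1920 := by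
  have h := card_orb_mul (fixIn M dR) c
  rw [orb_j315 hc, card_maskSet, j_ok.2.2.2.1, card_fix_dR] at h
  omega

theorem class_rep {X : Subgroup S} (hP : gensSub pGens ≤ X) {x : S} (hxX : x ∈ X) (hx : InCls x) :
    ∃ r a, r < 176 ∧ x = el (lW r a) ∧ el (repT r).2.1 ∈ X := by
  obtain ⟨c, hc, rfl⟩ := exists_code hx
  refine ⟨c / 32, _, ((incr_spec _ _ order_ok.1).1 c hc).1, rfl, ?_⟩
  have hp := hP (pW_spec ((repT (c / 32)).2.2.getD (c % 32) 0)).2
  rw [codeW, el_lW] at hxX
  have := X.mul_mem (X.mul_mem hp hxX) (X.inv_mem hp)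
  rwa [show ∀ p q : S, p * (p⁻¹ * q * p) * p⁻¹ = q by intros; group] at this

theorem fix_of_class {X : Subgroup S} (hXM : X ≤ M) (hX : Nat.card X = 604800)
    (hP : gensSub pGens ≤ X) {x : S} (hxX : x ∈ X) (hx : InCls x) :
    ∃ r a, r < 176 ∧ x = el (lW r a) ∧ el (repT r).2.1 ∈ X ∧
      tgt (repT r).2.1 184 = 184 ∧ π x dR = dR := by
  obtain ⟨r, a, hr, rfl, hc⟩ := class_rep hP hxX hx
  have h := List.all_eq_true.mp case_ok r (List.mem_range.mpr hr)
  have h1 := (rep_spec hr).2.1
  have hfix : tgt (repT r).2.1 184 = 184 := by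
    by_contra hne
    have hb : Nat.beq (tgt (repT r).2.1 184) 184 = false := by
      simpa [Nat.beq_eq, ← Bool.not_eq_true] using hne
    simp only [caseOK, hb, cond_false, Bool.and_eq_true, Bool.not_eq_true'] at h
    obtain ⟨⟨e1, e2⟩, e3⟩ := h
    set w := (caseCert.getD r ([], [], [])).2.1 with hw
    have hwX : el w ∈ X := by
      rw [eqW_el e1]
      refine el_comp_mem (fun v hv => ?_) _
      rcases List.mem_append.mp hv with hv | hv
      · exact hP (el_mem_gensSub hv)
      · rwa [List.mem_singleton.mp hv]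
    have h13 : el w ^ 13 = 1 := by
      rw [← el_flatten_replicate, eqW_el e2, el_nil]
    have hne1 : el w ≠ 1 := by
      intro he
      have hb6 := (eqW_below e1).1
      rw [eqW, hb6] at e3
      have : base.all (fun b => Nat.beq (tgt w b) (tgt [] b)) = true := by
        rw [List.all_eq_true]
        intro b hb
        rw [Nat.beq_eq, ← show ((⟨b, base_lt b hb⟩ : Fin 1782) : ℕ) = b from rfl,
          ← π_el w (below_mono (by norm_num) hb6), he, map_one]
        rfl
      rw [this] at e3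
      exact absurd e3 (by decide)
    haveI : Fact (Nat.Prime 13) := ⟨by norm_num⟩
    have hord : orderOf (el w) = 13 := orderOf_eq_prime h13 hne1
    have hd : orderOf (⟨el w, hwX⟩ : X) ∣ Nat.card X := orderOf_dvd_natCard _
    rw [Subgroup.orderOf_mk, hord, hX] at hd
    omega
  refine ⟨r, a, hr, rfl, hc, hfix, ?_⟩
  have hp : π (el (pW a)) dR = dR := (mem_fixIn.mp (pGens_le (pW_spec a).2)).2
  have hcr : π (el (repT r).2.1) dR = dR :=
    Fin.ext ((π_el _ (below_mono (by norm_num) h1) _).trans hfix)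
  rw [el_lW, map_mul, map_mul, Equiv.Perm.mul_apply, Equiv.Perm.mul_apply, hp, hcr, map_inv,
    Equiv.Perm.inv_eq_iff_eq, hp]

theorem fix_of_sylow_five {X : Subgroup S} (hXM : X ≤ M) (hX : Nat.card X = 604800)
    (hP : gensSub pGens ≤ X) : X = fixIn M dR := by
  classical
  refine Subgroup.eq_of_le_of_card_ge ?_ (by rw [hX, card_fix_dR])
  intro g hg
  refine mem_fixIn.mpr ⟨hXM hg, ?_⟩
  let A : Finset (Fin 1782) := DOne.filter fun y => ∀ x ∈ X, InCls x → π x y = y
  have hd : dR ∈ A := Finset.mem_filter.mpr ⟨dR_mem, fun x hx hc => by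
    obtain ⟨r, a, -, -, -, -, h⟩ := fix_of_class hXM hX hP hx hc; exact h⟩
  have hinv : ∀ u ∈ X, ∀ y ∈ A, π u y ∈ A := by
    intro u hu y hy
    obtain ⟨hy1, hy2⟩ := Finset.mem_filter.mp hy
    refine Finset.mem_filter.mpr ⟨DOne_inv (hXM hu) hy1, fun x hx hc => ?_⟩
    obtain ⟨m, hm, rfl⟩ := hc
    have := hy2 (u⁻¹ * (m * el zW * m⁻¹) * u) (X.mul_mem (X.mul_mem (X.inv_mem hu) hx) hu)
      ⟨u⁻¹ * m, M.mul_mem (M.inv_mem (hXM hu)) hm, by group⟩
    rw [map_mul, map_mul, map_inv, Equiv.Perm.mul_apply, Equiv.Perm.mul_apply,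
      Equiv.Perm.inv_eq_iff_eq] at this
    exact this
  haveI : Fact (Nat.Prime 3) := ⟨by norm_num⟩
  obtain ⟨m, hm, hmX⟩ := exists_conj_mem (p := 3) (k := 3) (Q := Subgroup.zpowers (el zW)) (X := X)
    (Subgroup.zpowers_le.mpr (el_mem_M rep_ok.2)) hXM
    (IsPGroup.of_card (n := 1) (by
      rw [Nat.card_zpowers, pow_one]
      refine orderOf_eq_prime ?_ ?_
      · rw [← el_flatten_replicate, eqW_el (show eqW (List.replicate 3 zW).flatten [] = true by decide +kernel),
          el_nil]
      · intro he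
        have h := π_el zW (below_mono (by norm_num) rep_ok.2) ⟨44, by norm_num⟩
        rw [he, map_one] at h
        exact absurd h (by decide +kernel)))
    (by decide +kernel) (by rw [hX]; norm_num)
  obtain ⟨r, a, hr, -, hcr, hfix, -⟩ := fix_of_class hXM hX hP (hmX _ (Subgroup.mem_zpowers _)) ⟨m, hm, rfl⟩
  have hcase := List.all_eq_true.mp case_ok r (List.mem_range.mpr hr)
  simp only [caseOK, show Nat.beq (tgt (repT r).2.1 184) 184 = true from Nat.beq_eq.mpr hfix, cond_true,
    Bool.and_eq_true] at hcase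
  obtain ⟨⟨hlen, hmem⟩, hall⟩ := hcase
  set L := (caseCert.getD r ([], [], [])).2.2 with hL
  have hAL : ∀ y ∈ A, y.val ∈ L := by
    intro y hy
    obtain ⟨hy1, hy2⟩ := Finset.mem_filter.mp hy
    have h := allRange_spec hall y.val (Nat.zero_le _) (by omega)
    simp only [mem_maskSet.mp hy1, Bool.not_true, Bool.false_or, Bool.or_eq_true, List.any_eq_true,
      Bool.not_eq_true'] at h
    rcases h with ⟨z, hz, he⟩ | ⟨a', ha', he⟩
    · rwa [Nat.beq_eq.mp he]
    · exfalso
      have hp := hP (pW_spec a').2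
      have h2 := hy2 (el (lW r a')) (by rw [el_lW]; exact X.mul_mem (X.mul_mem (X.inv_mem hp) hcr) hp)
        (lW_inCls hr a')
      have hb : below 7 (lW r a') = true := by
        refine below_mono (show 6 ≤ 7 by norm_num) ?_
        rw [lW, below_append, below_append]
        exact ⟨⟨(pW_spec a').1, (rep_spec hr).2.1⟩, below_reverse (pW_spec a').1⟩
      have h3 := π_el _ hb y
      rw [h2] at h3
      rw [← h3] at he
      simp at he
  have hcard : A.card ≤ 6 := by
    calc A.card ≤ L.toFinset.card := Finset.card_le_card_of_injOn Fin.val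
          (fun y hy => List.mem_toFinset.mpr (hAL y hy)) Fin.val_injective.injOn
      _ ≤ L.length := L.toFinset_card_le
      _ ≤ 6 := Nat.le_of_ble_eq_true hlen
  by_contra hne
  have hgA : π g dR ∈ A := hinv g hg dR hd
  have h315 : Nat.testBit j315M (π g dR).val = true := by
    have h := List.all_eq_true.mp hmem _ (hAL _ hgA)
    rw [Bool.or_eq_true, Nat.beq_eq] at h
    exact h.resolve_left fun e => hne (Fin.ext e)
  haveI : Fact (Nat.Prime 7) := ⟨by norm_num⟩
  haveI : Finite X := inferInstance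
  obtain ⟨y, hy⟩ := exists_prime_orderOf_dvd_card' (G := X) 7 (by rw [hX]; norm_num)
  have hy7 : Nat.card (Subgroup.zpowers (y : S)) = 7 := by
    rw [Nat.card_zpowers, Subgroup.orderOf_coe, hy]
  have hfixA : ∀ s ∈ A, π (y : S) s = s := by
    intro s hs
    have h := card_orb_mul (Subgroup.zpowers (y : S)) s
    rw [hy7] at h
    have hsub : orb (Subgroup.zpowers (y : S)) s ⊆ A := by
      intro t ht
      obtain ⟨u, hu, rfl⟩ := mem_orb.mp ht
      exact hinv u (Subgroup.zpowers_le.mpr y.2 hu) s hs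
    have hle : (orb (Subgroup.zpowers (y : S)) s).card ≤ 6 := (Finset.card_le_card hsub).trans hcard
    rcases (Nat.dvd_prime (by norm_num : Nat.Prime 7)).mp ⟨_, h.symm⟩ with h1 | h1
    · obtain ⟨t, ht⟩ := Finset.card_eq_one.mp h1
      have e1 : π (y : S) s ∈ orb (Subgroup.zpowers (y : S)) s :=
        mem_orb.mpr ⟨_, Subgroup.mem_zpowers _, rfl⟩
      have e2 : s ∈ orb (Subgroup.zpowers (y : S)) s := mem_orb.mpr ⟨1, Subgroup.one_mem _, by simp⟩
      rw [ht, Finset.mem_singleton] at e1 e2
      rw [e1, e2]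
    · omega
  have hyF : (y : S) ∈ fixIn (fixIn M dR) (π g dR) :=
    mem_fixIn.mpr ⟨mem_fixIn.mpr ⟨hXM y.2, hfixA _ hd⟩, hfixA _ hgA⟩
  have hdvd := orderOf_dvd_natCard (⟨(y : S), hyF⟩ : fixIn (fixIn M dR) (π g dR))
  rw [Subgroup.orderOf_mk, Subgroup.orderOf_coe, hy, card_fix_two h315] at hdvd
  omega

/-- subgroups of index 416 of `M` are point stabilisers -/
theorem index_416 {X : Subgroup S} (hXM : X ≤ M) (hX : Nat.card X = 604800) :
    ∃ d ∈ DOne, X = fixIn M d := by
  haveI : Fact (Nat.Prime 5) := ⟨by norm_num⟩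
  obtain ⟨m, hm, hmX⟩ := exists_conj_mem (p := 5) (k := 2) (Q := gensSub pGens) (X := X)
    (pGens_le.trans inf_le_left) hXM isPGroup_pGens (by decide +kernel) (by rw [hX]; norm_num)
  refine ⟨π m dR, DOne_inv hm dR_mem, ?_⟩
  have h := fix_of_sylow_five (X := X.map (MulAut.conj m⁻¹).toMonoidHom)
    (by rintro _ ⟨x, hx, rfl⟩; exact M.mul_mem (M.mul_mem (M.inv_mem hm) (hXM hx)) (by simpa using hm))
    (by rw [← hX]; exact Nat.card_congr (X.equivMapOfInjective _ (MulAut.conj m⁻¹).injective).symm.toEquiv)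
    (fun q hq => ⟨m * q * m⁻¹, hmX q hq, by simp [MulAut.conj_apply, mul_assoc]⟩)
  rw [← fix_conj hm, ← h, Subgroup.map_map]
  convert (Subgroup.map_id X).symm using 2
  ext x
  simp [mul_assoc]

end H57.SUZ
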