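import Cfsg.Agent.H57.SuzUniq.Rows

/-!
Subgroups of index 1365 of the point stabiliser with an invariant 96-set; invariant sets of the
stabilisers of two points.
-/

set_option autoImplicit false
set_option maxRecDepth 100000

namespace H57.SUZ

open H93 H93.Coset

/-- a set of points stable under a subgroup -/
def Stable (H : Subgroup S) (T : Finset (Fin 1782)) : Prop := ∀ x ∈ H, ∀ c ∈ T, π x c ∈ T

theorem piece_dich {H : Subgroup S} {T P : Finset (Fin 1782)} (hT : Stable H T)
    (hP : ∀ c ∈ P, P ⊆ orb H c) : T ∩ P = P ∨ T ∩ P = ∅ := by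
  rcases (T ∩ P).eq_empty_or_nonempty with h | ⟨c, hc⟩
  · exact Or.inr h
  · left
    rw [Finset.mem_inter] at hc
    refine Finset.inter_eq_right.mpr fun d hd => ?_
    obtain ⟨x, hx, rfl⟩ := mem_orb.mp (hP c hc.2 hd)
    exact hT x hx c hc.1

theorem card_union_two {T A B : Finset (Fin 1782)} (h : T ⊆ A ∪ B) (hAB : A ∩ B = ∅) :
    T.card = (T ∩ A).card + (T ∩ B).card := by
  rw [← Finset.card_union_of_disjoint, ← Finset.inter_union_distrib_left, Finset.inter_eq_left.mpr h]
  rw [Finset.disjoint_iff_inter_eq_empty, ← Finset.inter_inter_distrib_left, hAB, Finset.inter_empty]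

theorem piece_of_ok {b : Fin 1782} {ws : List (List ℕ)}
    (hws : ws.all (fun w => below 6 w && Nat.beq (tgt w b.val) b.val) = true) {l : List (ℕ × ℕ × ℕ)}
    {m r : ℕ} (hr : r < 1782) (hfill : fill ws l (2 ^ r) = m) :
    ∀ c ∈ maskSet m, maskSet m ⊆ orb (fixIn M b) c :=
  fun _ hc => transitive_piece hws hr hfill (mem_maskSet.mp hc)

theorem j_pieces_ok : Nat.land j100M j315M = 0 ∧ posJ < 133 ∧ rowV posJ = 184 ∧
    Nat.land (rowM posJ) maskOne = j100M := by
  decide +kernel

theorem nbr_dR : nbr dR ∩ DOne = maskSet j100M := by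
  rw [nbr_row j_pieces_ok.2.1 (x := dR) j_pieces_ok.2.2.1.symm, DOne, ← maskSet_land, j_pieces_ok.2.2.2]

theorem card_j100 : (maskSet j100M).card = 100 := (card_maskSet _).trans j_ok.2.2.2.2.1

/-- stable sets of the stabiliser of `dR` -/
theorem stable_dR {T : Finset (Fin 1782)} (hT : T ⊆ DOne) (hd : dR ∉ T) (hs : Stable (fixIn M dR) T) :
    (T.card = 100 → T = maskSet j100M) ∧
      (T.card = 0 ∨ T.card = 100 ∨ T.card = 315 ∨ T.card = 415) := by
  have hsub : T ⊆ maskSet j100M ∪ maskSet j315M := by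
    intro c hc
    rcases mem_DOne_cases (hT hc) with h | h | h
    · exact absurd (h ▸ hc) hd
    · exact Finset.mem_union_right _ (mem_maskSet.mpr h)
    · exact Finset.mem_union_left _ (mem_maskSet.mpr h)
  have hdis : maskSet j100M ∩ maskSet j315M = ∅ := by
    rw [← maskSet_land, j_pieces_ok.1, maskSet_zero]
  have h1 := piece_dich hs (piece_of_ok (b := dR) j_ok.1 j_ok.2.2.2.2.2.2.2.2.2 j_ok.2.2.1)
  have h2 := piece_dich hs (piece_of_ok (b := dR) j_ok.1 j_ok.2.2.2.2.2.2.2.2.1 j_ok.2.1)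
  have hc := card_union_two hsub hdis
  have c2 : (maskSet j315M).card = 315 := (card_maskSet _).trans j_ok.2.2.2.1
  rcases h1 with h1 | h1 <;> rcases h2 with h2 | h2 <;>
    simp only [h1, h2, card_j100, c2, Finset.card_empty] at hc <;>
    refine ⟨fun h => ?_, by omega⟩
  all_goals first
    | omega
    | (refine (Finset.eq_of_subset_of_card_le (Finset.inter_eq_right.mp h1) ?_).symm
       rw [h, card_j100])

theorem e_ok : eWords.all (fun w => below 6 w && Nat.beq (tgt w 1) 1) = true ∧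
    fill eWords e320aT (2 ^ e320aR) = e320aM ∧ fill eWords e96aT (2 ^ e96aR) = e96aM ∧
    fill eWords e1024bT (2 ^ e1024bR) = e1024bM ∧ fill eWords e20bT (2 ^ e20bR) = e20bM ∧
    fill eWords e320bT (2 ^ e320bR) = e320bM ∧
    e320aR < 1782 ∧ e96aR < 1782 ∧ e1024bR < 1782 ∧ e20bR < 1782 ∧ e320bR < 1782 := by
  decide +kernel

theorem e_masks_ok : Nat.lor e96aM e320aM = maskOne ∧ Nat.land e96aM e320aM = 0 ∧
    Nat.lor (Nat.lor e320bM (Nat.lor e20bM e1024bM)) (2 ^ 1) = maskTwo ∧
    Nat.land e320bM (Nat.lor e20bM e1024bM) = 0 ∧ Nat.land e20bM e1024bM = 0 ∧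
    cntBits e96aM = 96 ∧ cntBits e320aM = 320 ∧ cntBits e320bM = 320 ∧ cntBits e20bM = 20 ∧
    cntBits e1024bM = 1024 ∧ posE < 133 ∧ rowV posE = 1 ∧
    Nat.land (rowM posE) maskOne = e96aM ∧ Nat.land (rowM posE) maskTwo = e320bM := by
  decide +kernel

theorem nbr_eR_one : nbr eR ∩ DOne = maskSet e96aM := by
  obtain ⟨-, -, -, -, -, -, -, -, -, -, h1, h2, h3, -⟩ := e_masks_ok
  rw [nbr_row h1 (x := eR) h2.symm, DOne, ← maskSet_land, h3]

theorem nbr_eR_two : nbr eR ∩ DTwo = maskSet e320bM := by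
  obtain ⟨-, -, -, -, -, -, -, -, -, -, h1, h2, -, h4⟩ := e_masks_ok
  rw [nbr_row h1 (x := eR) h2.symm, DTwo, ← maskSet_land, h4]

theorem stable_eR_one {T : Finset (Fin 1782)} (hT : T ⊆ DOne) (hs : Stable (fixIn M eR) T)
    (h96 : T.card = 96) : T = maskSet e96aM := by
  obtain ⟨hw, f320, f96, -, -, -, r320, r96, -, -, -⟩ := e_ok
  obtain ⟨hor, hand, -, -, -, c96, c320, -⟩ := e_masks_ok
  have hsub : T ⊆ maskSet e96aM ∪ maskSet e320aM := by
    rw [← maskSet_lor, hor]; exact hT
  have hc := card_union_two hsub (by rw [← maskSet_land, hand, maskSet_zero])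
  have k96 : (maskSet e96aM).card = 96 := (card_maskSet _).trans c96
  have k320 : (maskSet e320aM).card = 320 := (card_maskSet _).trans c320
  rcases piece_dich hs (piece_of_ok (b := eR) hw r96 f96) with h1 | h1 <;>
    rcases piece_dich hs (piece_of_ok (b := eR) hw r320 f320) with h2 | h2 <;>
    simp only [h1, h2, k96, k320, Finset.card_empty] at hc
  all_goals first
    | omega
    | (refine (Finset.eq_of_subset_of_card_le (Finset.inter_eq_right.mp h1) ?_).symm
       rw [h96, k96])

theorem stable_eR_two {T : Finset (Fin 1782)} (hT : T ⊆ DTwo) (he : eR ∉ T)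
    (hs : Stable (fixIn M eR) T) (h320 : T.card = 320) : T = maskSet e320bM := by
  obtain ⟨hw, -, -, f1024, f20, f320, -, -, r1024, r20, r320⟩ := e_ok
  obtain ⟨-, -, hor, hand, hand2, -, -, c320, c20, c1024, -⟩ := e_masks_ok
  have hsub : T ⊆ maskSet e320bM ∪ maskSet (Nat.lor e20bM e1024bM) := by
    intro c hc
    have h := hT hc
    rw [DTwo, ← hor, maskSet_lor, maskSet_lor, Finset.mem_union] at h
    rcases h with h | h
    · exact h
    · rw [mem_maskSet, Nat.testBit_two_pow, decide_eq_true_eq] at h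
      exact absurd ((Fin.ext h.symm : c = eR) ▸ hc) he
  have hc := card_union_two hsub (by rw [← maskSet_land, hand, maskSet_zero])
  have hc2 := card_union_two (T := T ∩ maskSet (Nat.lor e20bM e1024bM)) (A := maskSet e20bM)
    (B := maskSet e1024bM) (by rw [← maskSet_lor]; exact Finset.inter_subset_right)
    (by rw [← maskSet_land, hand2, maskSet_zero])
  have iA : maskSet (Nat.lor e20bM e1024bM) ∩ maskSet e20bM = maskSet e20bM :=
    Finset.inter_eq_right.mpr (by rw [maskSet_lor]; exact Finset.subset_union_left)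
  have iB : maskSet (Nat.lor e20bM e1024bM) ∩ maskSet e1024bM = maskSet e1024bM :=
    Finset.inter_eq_right.mpr (by rw [maskSet_lor]; exact Finset.subset_union_right)
  rw [Finset.inter_assoc, Finset.inter_assoc, iA, iB] at hc2
  have k320 : (maskSet e320bM).card = 320 := (card_maskSet _).trans c320
  have k20 : (maskSet e20bM).card = 20 := (card_maskSet _).trans c20
  have k1024 : (maskSet e1024bM).card = 1024 := (card_maskSet _).trans c1024
  rw [hc2] at hc
  rcases piece_dich hs (piece_of_ok (b := eR) hw r320 f320) with h1 | h1 <;>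
    rcases piece_dich hs (piece_of_ok (b := eR) hw r20 f20) with h2 | h2 <;>
    rcases piece_dich hs (piece_of_ok (b := eR) hw r1024 f1024) with h3 | h3 <;>
    simp only [h1, h2, h3, k320, k20, k1024, Finset.card_empty] at hc
  all_goals first
    | omega
    | (refine (Finset.eq_of_subset_of_card_le (Finset.inter_eq_right.mp h1) ?_).symm
       rw [h320, k320])

/-- the masks of the orbits of `U` on the 416 points -/
def uAMasks : List ℕ := uAOrb.map fun o => o.2.2

/-- union of masks -/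
def lorL (L : List ℕ) : ℕ := L.foldr Nat.lor 0

/-- the words of `U` -/
def uWords : List (List ℕ) := uPc.map (·.1)

/-- rows of the representatives of the orbits of `U` on the 1365 points -/
def uRow (i : ℕ) : ℕ := rowM (posU.getD i 0)

/-- mask of an orbit of `U` on the 1365 points -/
def uBM (i : ℕ) : ℕ := (uBOrb.getD i (0, [], 0)).2.2

/-- number of neighbours in a mask -/
noncomputable def uVal (m i : ℕ) : ℕ := cntBits (Nat.land (uRow i) m)

/-- the set of points with 64 neighbours in the mask -/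
noncomputable def qMask (m : ℕ) : ℕ :=
  lorL (((List.range 6).filter fun i => Nat.beq (uVal m i) 64).map uBM)

/-- the first orbit is told apart -/
noncomputable def candOK (m : ℕ) : Bool :=
  !(Nat.beq (cntBits m) 96) || force (qMask m) fun q =>
    ((List.range 5).all fun i => !(Nat.beq (uVal m (i + 1)) (uVal m 0) && Nat.beq (uVal q (i + 1)) (uVal q 0)))

theorem cand_ok : (uAMasks.sublists.map lorL).all candOK = true := by decide +kernel

theorem u_ok : uWords.all (fun w => below 6 w && Nat.beq (tgt w 1) 1) = true ∧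
    uAOrb.all (fun o => Nat.blt o.1 1782 && Nat.beq (fill uWords o.2.1 (2 ^ o.1)) o.2.2) = true ∧
    uBOrb.all (fun o => Nat.blt o.1 1782 && Nat.beq (fill uWords o.2.1 (2 ^ o.1)) o.2.2) = true ∧
    lorL uAMasks = maskOne ∧ lorL (uBOrb.map fun o => o.2.2) = maskTwo ∧ uBOrb.length = 6 ∧
    (List.range 6).all (fun i => Nat.blt (posU.getD i 0) 133 &&
      Nat.beq (rowV (posU.getD i 0)) (uBOrb.getD i (0, [], 0)).1) = true ∧
    uBM 0 = 2 ^ 1 := by
  decide +kernel

theorem isPGroup_U : IsPGroup 2 (gensSub uWords) :=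
  haveI : Fact (Nat.Prime 2) := ⟨by norm_num⟩
  pc_isPGroup' (p := 2) (ls := uPc) (by decide +kernel)

theorem U_le : gensSub uWords ≤ fixIn M eR := by
  refine gensSub_le fun w hw => ?_
  have h := List.all_eq_true.mp u_ok.1 w hw
  rw [Bool.and_eq_true, Nat.beq_eq] at h
  refine mem_fixIn.mpr ⟨el_mem_M h.1, Fin.ext ?_⟩
  rw [π_el _ (below_mono (by norm_num) h.1)]
  exact h.2

theorem mem_lorL {c : Fin 1782} : ∀ {L : List ℕ}, c ∈ maskSet (lorL L) ↔ ∃ m ∈ L, c ∈ maskSet m
  | [] => by simp [lorL, maskSet_zero]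
  | m :: L => by
    rw [lorL, List.foldr_cons, maskSet_lor, Finset.mem_union, ← lorL, mem_lorL]
    simp

theorem u_piece {o : ℕ × List (ℕ × ℕ × ℕ) × ℕ}
    (h : Nat.blt o.1 1782 = true ∧ Nat.beq (fill uWords o.2.1 (2 ^ o.1)) o.2.2 = true) :
    ∀ c ∈ maskSet o.2.2, maskSet o.2.2 ⊆ orb (gensSub uWords) c := by
  intro c hc
  have hl : uWords.all (below 7) = true := List.all_eq_true.mpr fun w hw => by
    have := List.all_eq_true.mp u_ok.1 w hw
    rw [Bool.and_eq_true] at this
    exact below_mono (by norm_num) this.1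
  have hsub : maskSet o.2.2 ⊆ orb (gensSub uWords) ⟨o.1, (Data.blt_iff).mp h.1⟩ :=
    maskSet_subset_orb hl (fun w hw => el_mem_gensSub hw) (Nat.beq_eq.mp h.2)
  exact orb_trans (hsub hc) ▸ hsub

theorem card_inter_nbr {H : Subgroup S} {T : Finset (Fin 1782)} (hT : Stable H T) {x : S} (hx : x ∈ H)
    (c : Fin 1782) : (nbr (π x c) ∩ T).card = (nbr c ∩ T).card := by
  have hT' : T.image (π x) = T := Finset.eq_of_subset_of_card_le
    (fun d hd => by obtain ⟨e, he, rfl⟩ := Finset.mem_image.mp hd; exact hT x hx e he)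
    (by rw [Finset.card_image_of_injective _ (π x).injective])
  conv_lhs => rw [← hT', nbr_smul, ← Finset.image_inter _ _ (π x).injective]
  exact Finset.card_image_of_injective _ (π x).injective

/-- an overgroup of `U` of order 184320 stabilising a 96-set fixes `eR` -/
theorem fix_of_sylow_two {X : Subgroup S} (hXM : X ≤ M) (hX : Nat.card X = 184320)
    (hU : gensSub uWords ≤ X) {D : Finset (Fin 1782)} (hD : D ⊆ DOne) (hs : Stable X D)
    (h96 : D.card = 96) : X = fixIn M eR := by
  classical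
  refine Subgroup.eq_of_le_of_card_ge ?_ (by rw [hX, card_fix_eR])
  intro g hg
  refine mem_fixIn.mpr ⟨hXM hg, ?_⟩
  obtain ⟨-, hA, hB, hAall, hBall, hlen, hrow, h0⟩ := u_ok
  let sel := uAMasks.filter fun m => decide (maskSet m ⊆ D)
  have hDsel : D = maskSet (lorL sel) := by
    ext c
    rw [mem_lorL]
    constructor
    · intro hc
      have h := hD hc
      rw [DOne, ← hAall, mem_lorL] at h
      obtain ⟨m, hm, hcm⟩ := h
      obtain ⟨o, ho, rfl⟩ := List.mem_map.mp hm
      refine ⟨_, List.mem_filter.mpr ⟨hm, decide_eq_true fun d hd => ?_⟩, hcm⟩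
      obtain ⟨x, hx, rfl⟩ := mem_orb.mp
        (u_piece (Bool.and_eq_true _ _ |>.mp (List.all_eq_true.mp hA o ho)) c hcm hd)
      exact hs x (hU hx) c hc
    · rintro ⟨m, hm, hcm⟩
      exact of_decide_eq_true (List.mem_filter.mp hm).2 hcm
  set m := lorL sel with hm
  have hcand : candOK m = true := List.all_eq_true.mp cand_ok m
    (List.mem_map.mpr ⟨sel, List.mem_sublists.mpr List.filter_sublist, rfl⟩)
  have hm96 : cntBits m = 96 := by rw [← card_maskSet, ← hDsel, h96]
  simp only [candOK, hm96, show Nat.beq 96 96 = true from rfl, Bool.not_true, Bool.false_or, force_eq,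
    List.all_eq_true, List.mem_range, Bool.not_eq_true'] at hcand
  have hrep : ∀ c ∈ DTwo, ∃ i < 6, c ∈ maskSet (uBM i) ∧
      ∀ T, Stable X T → ∀ m', T = maskSet m' → (nbr c ∩ T).card = uVal m' i := by
    intro c hc
    rw [DTwo, ← hBall, mem_lorL] at hc
    obtain ⟨mm, hmm, hcm⟩ := hc
    obtain ⟨o, ho, rfl⟩ := List.mem_map.mp hmm
    obtain ⟨i, hi, hoi⟩ := List.getElem_of_mem ho
    have hi6 : i < 6 := hlen ▸ hi
    have hgd : uBOrb.getD i (0, [], 0) = o := by rw [List.getD_eq_getElem _ _ hi, hoi]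
    refine ⟨i, hi6, by rw [uBM, hgd]; exact hcm, fun T hT m' hm' => ?_⟩
    have hck := Bool.and_eq_true _ _ |>.mp (List.all_eq_true.mp hB o ho)
    have hr := Bool.and_eq_true _ _ |>.mp (List.all_eq_true.mp hrow i (List.mem_range.mpr hi6))
    rw [hgd, Nat.beq_eq, Data.blt_iff] at hr
    have hlt : o.1 < 1782 := Data.blt_iff.mp hck.1
    have hself : (⟨o.1, hlt⟩ : Fin 1782) ∈ maskSet o.2.2 := by
      rw [mem_maskSet, ← Nat.beq_eq.mp hck.2]
      have : ∀ (l : List (ℕ × ℕ × ℕ)) (a : ℕ), Nat.testBit a o.1 = true →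
          Nat.testBit (fill uWords l a) o.1 = true := by
        intro l
        induction l with
        | nil => exact fun a h => h
        | cons t l ih =>
          obtain ⟨p, q, k⟩ := t
          intro a h
          rw [fill, force_eq]
          cases (Nat.testBit a q && Nat.beq (tgt (uWords.getD k []) q) p)
          · exact h
          · exact ih _ (by rw [Nat.testBit_lor, h, Bool.true_or])
      exact this _ _ (by rw [Nat.testBit_two_pow]; simp)
    obtain ⟨x, hx, e⟩ := mem_orb.mp (u_piece hck _ hself hcm)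
    rw [← e, card_inter_nbr hT (hU hx), nbr_row hr.1 (x := ⟨o.1, hlt⟩) hr.2.symm, hm', ← maskSet_land,
      card_maskSet]
    rfl
  let Q : Finset (Fin 1782) := DTwo.filter fun c => (nbr c ∩ D).card = 64
  have hQs : Stable X Q := by
    intro x hx c hc
    obtain ⟨h1, h2⟩ := Finset.mem_filter.mp hc
    exact Finset.mem_filter.mpr ⟨DTwo_inv (hXM hx) h1, (card_inter_nbr hs hx c).trans h2⟩
  have hQm : Q = maskSet (qMask m) := by
    ext c
    rw [qMask, mem_lorL, Finset.mem_filter]
    constructor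
    · rintro ⟨h1, h2⟩
      obtain ⟨i, hi, hci, hv⟩ := hrep c h1
      refine ⟨uBM i, List.mem_map.mpr ⟨i, List.mem_filter.mpr ⟨List.mem_range.mpr hi, ?_⟩, rfl⟩, hci⟩
      rw [Nat.beq_eq, ← hv D hs m hDsel, h2]
    · rintro ⟨mm, hmm, hc⟩
      obtain ⟨i, hi, rfl⟩ := List.mem_map.mp hmm
      obtain ⟨hi1, hi2⟩ := List.mem_filter.mp hi
      have hi6 : i < 6 := List.mem_range.mp hi1
      have ho : uBOrb.getD i (0, [], 0) ∈ uBOrb := by
        rw [List.getD_eq_getElem _ _ (hlen.symm ▸ hi6)]; exact List.getElem_mem _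
      have hck := Bool.and_eq_true _ _ |>.mp (List.all_eq_true.mp hB _ ho)
      have h1 : c ∈ DTwo := by
        rw [DTwo, ← hBall, mem_lorL]
        exact ⟨_, List.mem_map.mpr ⟨_, ho, rfl⟩, hc⟩
      refine ⟨h1, ?_⟩
      have hlt : (uBOrb.getD i (0, [], 0)).1 < 1782 := Data.blt_iff.mp hck.1
      have hr := Bool.and_eq_true _ _ |>.mp (List.all_eq_true.mp hrow i hi1)
      rw [Nat.beq_eq, Data.blt_iff] at hr
      have hsub : maskSet (uBM i) ⊆ orb (gensSub uWords) ⟨_, hlt⟩ :=
        maskSet_subset_orb (List.all_eq_true.mpr fun w hw => by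
          have := List.all_eq_true.mp u_ok.1 w hw
          rw [Bool.and_eq_true] at this
          exact below_mono (by norm_num) this.1) (fun w hw => el_mem_gensSub hw) (Nat.beq_eq.mp hck.2)
      obtain ⟨x, hx, rfl⟩ := mem_orb.mp (hsub hc)
      rw [card_inter_nbr hs (hU hx), nbr_row hr.1 (x := ⟨_, hlt⟩) hr.2.symm, hDsel, ← maskSet_land,
        card_maskSet]
      exact Nat.beq_eq.mp hi2
  have hsig : ∀ c ∈ DTwo, (nbr c ∩ D).card = uVal m 0 → (nbr c ∩ Q).card = uVal (qMask m) 0 → c = eR := by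
    intro c hc h1 h2
    obtain ⟨i, hi, hci, hv⟩ := hrep c hc
    rw [hv D hs m hDsel] at h1
    rw [hv Q hQs _ hQm] at h2
    rcases Nat.eq_zero_or_pos i with rfl | hpos
    · rw [h0, mem_maskSet, Nat.testBit_two_pow, decide_eq_true_eq] at hci
      exact Fin.ext hci.symm
    · exfalso
      have := hcand (i - 1) (by omega)
      rw [show i - 1 + 1 = i by omega, Nat.beq_eq.mpr h1, Nat.beq_eq.mpr h2] at this
      exact absurd this (by decide)
  have heD : eR ∈ DTwo := mem_maskSet.mpr mask_ok.2.2.2.2.2.2.2.2.1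
  have hr0 := Bool.and_eq_true _ _ |>.mp (List.all_eq_true.mp hrow 0 (List.mem_range.mpr (by norm_num)))
  rw [Nat.beq_eq, Data.blt_iff] at hr0
  have hrow0 : nbr eR = maskSet (uRow 0) := nbr_row hr0.1 (x := eR) (by rw [hr0.2]; rfl)
  refine hsig _ (DTwo_inv (hXM hg) heD) ?_ ?_
  · rw [card_inter_nbr hs hg, hrow0, hDsel, ← maskSet_land, card_maskSet]; rfl
  · rw [card_inter_nbr hQs hg, hrow0, hQm, ← maskSet_land, card_maskSet]; rfl

/-- subgroups of index 1365 of `M` stabilising a 96-subset of the first orbit -/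
theorem index_1365 {X : Subgroup S} (hXM : X ≤ M) (hX : Nat.card X = 184320)
    {D : Finset (Fin 1782)} (hD : D ⊆ DOne) (hs : Stable X D) (h96 : D.card = 96) :
    ∃ e ∈ DTwo, X = fixIn M e := by
  haveI : Fact (Nat.Prime 2) := ⟨by norm_num⟩
  obtain ⟨m, hm, hmX⟩ := exists_conj_mem (p := 2) (k := 12) (Q := gensSub uWords) (X := X)
    (U_le.trans inf_le_left) hXM isPGroup_U (by decide +kernel) (by rw [hX]; norm_num)
  refine ⟨π m eR, DTwo_inv hm (mem_maskSet.mpr mask_ok.2.2.2.2.2.2.2.2.1), ?_⟩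
  have h := fix_of_sylow_two (X := X.map (MulAut.conj m⁻¹).toMonoidHom) (D := D.image (π m⁻¹))
    (by rintro _ ⟨x, hx, rfl⟩; exact M.mul_mem (M.mul_mem (M.inv_mem hm) (hXM hx)) (by simpa using hm))
    (by rw [← hX]; exact Nat.card_congr (X.equivMapOfInjective _ (MulAut.conj m⁻¹).injective).symm.toEquiv)
    (fun q hq => ⟨m * q * m⁻¹, hmX q hq, by simp [MulAut.conj_apply, mul_assoc]⟩)
    (fun c hc => by obtain ⟨d, hd, rfl⟩ := Finset.mem_image.mp hc; exact DOne_inv (M.inv_mem hm) (hD hd))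
    (by
      rintro _ ⟨x, hx, rfl⟩ c hc
      obtain ⟨d, hd, rfl⟩ := Finset.mem_image.mp hc
      exact Finset.mem_image.mpr ⟨π x d, hs x hx d hd, by simp⟩)
    (by rw [Finset.card_image_of_injective _ (π m⁻¹).injective, h96])
  rw [← fix_conj hm, ← h, Subgroup.map_map]
  convert (Subgroup.map_id X).symm using 2
  ext x
  simp [mul_assoc]

end H57.SUZ
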