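import Cfsg.Agent.H57.SuzUniq.Basic
import Cfsg.Agent.H57.SuzUniq.DataJ

/-!
A base of the point stabiliser, equality of words, checked `p`-groups.
-/

set_option autoImplicit false
set_option maxRecDepth 100000

namespace H57.SUZ

open H93 H93.Coset

/-- a chain of orbit certificates, every level fixing the earlier points -/
noncomputable def chOK : List (ℕ × List (List ℕ) × List (ℕ × ℕ × ℕ)) → List ℕ → Bool
  | [], _ => true
  | (b, ws, _) :: ls, pts =>
      Nat.blt b 1782 && ws.all (fun w => below 6 w && pts.all fun p => Nat.beq (tgt w p) p) &&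
        chOK ls (b :: pts)

/-- the number of elements counted by a chain -/
noncomputable def chProd : List (ℕ × List (List ℕ) × List (ℕ × ℕ × ℕ)) → ℕ
  | [] => 1
  | (b, ws, t) :: ls => cntBits (fill ws t (2 ^ b)) * chProd ls

/-- the subgroup fixing some points -/
noncomputable def fixL (H : Subgroup S) (pts : List ℕ) : Subgroup S where
  carrier := {x | x ∈ H ∧ ∀ c : Fin 1782, c.val ∈ pts → π x c = c}
  one_mem' := ⟨H.one_mem, fun c _ => by simp⟩
  mul_mem' := fun ⟨ha, ha'⟩ ⟨hb, hb'⟩ =>
    ⟨H.mul_mem ha hb, fun c hc => by rw [map_mul, Equiv.Perm.mul_apply, hb' c hc, ha' c hc]⟩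
  inv_mem' := fun ⟨ha, ha'⟩ =>
    ⟨H.inv_mem ha, fun c hc => by rw [map_inv, Equiv.Perm.inv_eq_iff_eq, ha' c hc]⟩

theorem mem_fixL {H : Subgroup S} {pts : List ℕ} {x : S} :
    x ∈ fixL H pts ↔ x ∈ H ∧ ∀ c : Fin 1782, c.val ∈ pts → π x c = c := Iff.rfl

theorem fixL_cons_le (H : Subgroup S) (b : ℕ) (pts : List ℕ) : fixL H (b :: pts) ≤ fixL H pts :=
  fun _ ⟨h1, h2⟩ => ⟨h1, fun c hc => h2 c (List.mem_cons_of_mem _ hc)⟩

theorem fixIn_fixL (H : Subgroup S) {b : ℕ} (hb : b < 1782) (pts : List ℕ) :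
    fixIn (fixL H pts) ⟨b, hb⟩ = fixL H (b :: pts) := by
  ext x
  rw [mem_fixIn, mem_fixL, mem_fixL]
  constructor
  · rintro ⟨⟨h1, h2⟩, h3⟩
    refine ⟨h1, fun c hc => ?_⟩
    rcases List.mem_cons.mp hc with hc | hc
    · rw [show c = ⟨b, hb⟩ from Fin.ext hc]; exact h3
    · exact h2 c hc
  · rintro ⟨h1, h2⟩
    exact ⟨⟨h1, fun c hc => h2 c (List.mem_cons_of_mem _ hc)⟩, h2 ⟨b, hb⟩ (List.mem_cons_self)⟩

/-- the last point list of a chain -/
def chPts : List (ℕ × List (List ℕ) × List (ℕ × ℕ × ℕ)) → List ℕ → List ℕ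
  | [], pts => pts
  | (b, _, _) :: ls, pts => chPts ls (b :: pts)

theorem chain_le (H : Subgroup S) :
    ∀ (ls : List (ℕ × List (List ℕ) × List (ℕ × ℕ × ℕ))) (pts : List ℕ), chOK ls pts = true →
      (∀ L ∈ ls, ∀ w ∈ L.2.1, el w ∈ H) →
      chProd ls * Nat.card (fixL H (chPts ls pts)) ≤ Nat.card (fixL H pts) := by
  intro ls
  induction ls with
  | nil => intro pts _ _; simp [chProd, chPts]
  | cons L ls ih =>
    obtain ⟨b, ws, t⟩ := L
    intro pts h hH
    simp only [chOK, Bool.and_eq_true, Data.blt_iff] at h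
    obtain ⟨⟨hb, hws⟩, hrest⟩ := h
    have hw : ∀ w ∈ ws, el w ∈ fixL H pts := by
      intro w hw
      have h1 := List.all_eq_true.mp hws w hw
      rw [Bool.and_eq_true] at h1
      refine ⟨hH _ List.mem_cons_self w hw, fun c hc => Fin.ext ?_⟩
      rw [π_el w (below_mono (by norm_num) h1.1)]
      exact Nat.beq_eq.mp (List.all_eq_true.mp h1.2 _ hc)
    have hl : ws.all (below 7) = true := List.all_eq_true.mpr fun w hw' => by
      have h1 := List.all_eq_true.mp hws w hw'
      rw [Bool.and_eq_true] at h1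
      exact below_mono (by norm_num) h1.1
    have h1 := fill_card_le hl hw t ⟨b, hb⟩
    have h2 := card_orb_mul (fixL H pts) ⟨b, hb⟩
    rw [fixIn_fixL H hb pts] at h2
    have h3 := ih (b :: pts) hrest (fun L hL => hH L (List.mem_cons_of_mem _ hL))
    calc chProd ((b, ws, t) :: ls) * Nat.card (fixL H (chPts ls (b :: pts)))
        = cntBits (fill ws t (2 ^ b)) * (chProd ls * Nat.card (fixL H (chPts ls (b :: pts)))) := by
          rw [chProd, Nat.mul_assoc]
      _ ≤ (orb (fixL H pts) ⟨b, hb⟩).card * Nat.card (fixL H (b :: pts)) := Nat.mul_le_mul h1 h3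
      _ = Nat.card (fixL H pts) := h2

theorem mG_ok : chOK mGChain [] = true ∧ chProd mGChain = 251596800 ∧ chPts mGChain [] = base.reverse := by
  decide +kernel

theorem chain_mem_of_ok : ∀ (ls : List (ℕ × List (List ℕ) × List (ℕ × ℕ × ℕ))) (pts : List ℕ),
    chOK ls pts = true → ∀ L ∈ ls, ∀ w ∈ L.2.1, el w ∈ M := by
  intro ls
  induction ls with
  | nil => simp
  | cons a ls ih =>
    intro pts h L hL w hw
    simp only [chOK, Bool.and_eq_true] at h
    rcases List.mem_cons.mp hL with rfl | hL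
    · have := List.all_eq_true.mp h.1.2 w hw
      rw [Bool.and_eq_true] at this
      exact el_mem_M this.1
    · exact ih _ h.2 L hL w hw

theorem base_lt : ∀ b ∈ base, b < 1782 := by decide

theorem base_faithful {x : S} (hx : x ∈ M) (h : ∀ c : Fin 1782, c.val ∈ base → π x c = c) : x = 1 := by
  obtain ⟨h1, h2, h3⟩ := mG_ok
  have h4 := chain_le M mGChain [] h1 (chain_mem_of_ok _ _ h1)
  rw [h2, h3] at h4
  have h5 : Nat.card (fixL M []) ≤ 251596800 :=
    le_of_le_of_eq (Nat.le_of_dvd Nat.card_pos (Subgroup.card_dvd_of_le fun a ha => ha.1)) card_M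
  have h6 : fixL M base.reverse = ⊥ := by
    rw [← Subgroup.card_eq_one]
    have : 0 < Nat.card (fixL M base.reverse) := Nat.card_pos
    omega
  have : x ∈ fixL M base.reverse := ⟨hx, fun c hc => h c (List.mem_reverse.mp hc)⟩
  rwa [h6, Subgroup.mem_bot] at this

/-- two words of the point stabiliser agree on the base -/
noncomputable def eqW (u v : List ℕ) : Bool :=
  below 6 u && below 6 v && base.all fun b => Nat.beq (tgt u b) (tgt v b)

theorem eqW_el {u v : List ℕ} (h : eqW u v = true) : el u = el v := by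
  simp only [eqW, Bool.and_eq_true] at h
  obtain ⟨⟨hu, hv⟩, hb⟩ := h
  have hM : (el v)⁻¹ * el u ∈ M := M.mul_mem (M.inv_mem (el_mem_M hv)) (el_mem_M hu)
  have := base_faithful hM fun c hc => by
    rw [map_mul, Equiv.Perm.mul_apply, map_inv, Equiv.Perm.inv_eq_iff_eq]
    apply Fin.ext
    rw [π_el u (below_mono (by norm_num) hu), π_el v (below_mono (by norm_num) hv)]
    exact Nat.beq_eq.mp (List.all_eq_true.mp hb _ hc)
  exact (inv_mul_eq_one.mp this).symm

theorem eqW_below {u v : List ℕ} (h : eqW u v = true) : below 6 u = true ∧ below 6 v = true := by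
  simp only [eqW, Bool.and_eq_true] at h
  exact h.1

/-- a word composed of given words -/
def comp (ws : List (List ℕ)) (idx : List ℕ) : List ℕ := idx.flatMap fun i => ws.getD i []

theorem el_comp_mem {H : Subgroup S} {ws : List (List ℕ)} (hH : ∀ w ∈ ws, el w ∈ H) (idx : List ℕ) :
    el (comp ws idx) ∈ H := by
  induction idx with
  | nil => exact H.one_mem
  | cons i idx ih =>
    rw [comp, List.flatMap_cons, el_append]
    refine H.mul_mem ih ?_
    rw [List.getD_eq_getElem?_getD]
    cases hk : ws[i]? with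
    | none => exact H.one_mem
    | some w => exact hH w (List.mem_of_getElem? hk)

/-- the subgroup generated by some words -/
noncomputable def gensSub (ws : List (List ℕ)) : Subgroup S :=
  Subgroup.closure {x | ∃ w ∈ ws, el w = x}

theorem el_mem_gensSub {ws : List (List ℕ)} {w : List ℕ} (h : w ∈ ws) : el w ∈ gensSub ws :=
  Subgroup.subset_closure ⟨w, h, rfl⟩

theorem gensSub_le {ws : List (List ℕ)} {H : Subgroup S} (h : ∀ w ∈ ws, el w ∈ H) : gensSub ws ≤ H :=
  (Subgroup.closure_le _).mpr fun _ ⟨w, hw, e⟩ => e ▸ h w hw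

/-- a series with steps of index `p` or one -/
noncomputable def pcOK (p : ℕ) : List (List ℕ × List ℕ × List (List ℕ)) → List (List ℕ) → Bool
  | [], _ => true
  | (w, sq, cj) :: ls, prev =>
      below 6 w && eqW (List.replicate p w).flatten (comp prev sq) && Nat.beq cj.length prev.length &&
        (List.range prev.length).all (fun j => eqW (w.reverse ++ prev.getD j [] ++ w) (comp prev (cj.getD j []))) &&
        pcOK p ls (prev ++ [w])

theorem isPGroup_sup_zpowers {p : ℕ} [hp : Fact p.Prime] {H : Subgroup S} (hH : IsPGroup p H) {u : S}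
    (hu : u ^ p ∈ H) (hn : ∀ h ∈ H, u * h * u⁻¹ ∈ H) : IsPGroup p ↥(H ⊔ Subgroup.zpowers u) := by
  have hnorm : u ∈ Subgroup.normalizer (H : Set S) := by
    rw [Subgroup.mem_normalizer_iff]
    intro h
    refine ⟨hn h, fun hh => ?_⟩
    haveI : Finite S := inferInstance
    have hmap : H.map (MulAut.conj u).toMonoidHom = H := by
      refine Subgroup.eq_of_le_of_card_ge ?_ (le_of_eq ?_)
      · rintro _ ⟨a, ha, rfl⟩
        exact hn a ha
      · exact Nat.card_congr (H.equivMapOfInjective _ (MulAut.conj u).injective).toEquiv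
    rw [← hmap] at hh
    obtain ⟨a, ha, he⟩ := hh
    rwa [show a = h from (MulAut.conj u).injective he] at ha
  intro g
  obtain ⟨g, hg⟩ := g
  rw [← SetLike.mem_coe, Subgroup.coe_mul_of_right_le_normalizer_left H _
    ((Subgroup.zpowers_le).mpr hnorm)] at hg
  obtain ⟨h, hh, z, ⟨k, rfl⟩, rfl⟩ := hg
  have key : ∀ (n : ℕ), ∀ a : S, a ∈ H → ∃ b ∈ H, (a * u ^ k) ^ n = b * u ^ (k * n) := by
    intro n a ha
    induction n with
    | zero => exact ⟨1, H.one_mem, by simp⟩
    | succ n ih =>
      obtain ⟨b, hb, e⟩ := ih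
      refine ⟨b * (u ^ (k * n) * a * (u ^ (k * n))⁻¹), H.mul_mem hb ?_, ?_⟩
      · exact ((Subgroup.mem_normalizer_iff.mp (Subgroup.zpow_mem _ hnorm (k * n))) a).mp ha
      · rw [pow_succ, e, Nat.cast_succ, mul_add, mul_one, zpow_add]
        group
  obtain ⟨b, hb, e⟩ := key p h hh
  have hp' : (h * u ^ k) ^ p ∈ H := by
    rw [e]
    refine H.mul_mem hb ?_
    rw [mul_comm, zpow_mul, zpow_natCast]
    exact H.zpow_mem hu k
  obtain ⟨m, hm⟩ := hH ⟨_, hp'⟩
  refine ⟨m + 1, Subtype.ext ?_⟩
  show (h * u ^ k) ^ p ^ (m + 1) = 1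
  rw [pow_succ', pow_mul]
  exact congrArg Subtype.val hm

theorem gensSub_append (prev : List (List ℕ)) (w : List ℕ) :
    gensSub (prev ++ [w]) = gensSub prev ⊔ Subgroup.zpowers (el w) := by
  refine le_antisymm ((Subgroup.closure_le _).mpr ?_) (sup_le (gensSub_le fun v hv => ?_) ?_)
  · rintro _ ⟨v, hv, rfl⟩
    rcases List.mem_append.mp hv with hv | hv
    · exact Subgroup.mem_sup_left (el_mem_gensSub hv)
    · rw [List.mem_singleton.mp hv]
      exact Subgroup.mem_sup_right (Subgroup.mem_zpowers _)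
  · exact el_mem_gensSub (List.mem_append_left _ hv)
  · exact Subgroup.zpowers_le.mpr (el_mem_gensSub (List.mem_append_right _ (List.mem_singleton.mpr rfl)))

theorem pc_isPGroup {p : ℕ} [hp : Fact p.Prime] :
    ∀ (ls : List (List ℕ × List ℕ × List (List ℕ))) (prev : List (List ℕ)), pcOK p ls prev = true →
      IsPGroup p (gensSub prev) → IsPGroup p (gensSub (prev ++ ls.map (·.1))) := by
  intro ls
  induction ls with
  | nil => intro prev _ h; rwa [List.map_nil, List.append_nil]
  | cons a ls ih =>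
    obtain ⟨w, sq, cj⟩ := a
    intro prev h hP
    simp only [pcOK, Bool.and_eq_true, Nat.beq_eq, List.all_eq_true, List.mem_range] at h
    obtain ⟨⟨⟨⟨hw, hsq⟩, -⟩, hcj⟩, hrest⟩ := h
    have hgen : ∀ v ∈ prev, el v ∈ gensSub prev := fun v hv => el_mem_gensSub hv
    have h1 : el w ^ p ∈ gensSub prev := by
      rw [← el_flatten_replicate, eqW_el hsq]
      exact el_comp_mem hgen sq
    have hw7 : below 7 w = true := below_mono (by norm_num) hw
    have h2 : ∀ g ∈ gensSub prev, el w * g * (el w)⁻¹ ∈ gensSub prev := by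
      have : gensSub prev ≤ (gensSub prev).comap (MulAut.conj (el w)).toMonoidHom := by
        refine gensSub_le fun v hv => ?_
        obtain ⟨j, hj, rfl⟩ := List.getElem_of_mem hv
        show el w * el prev[j] * (el w)⁻¹ ∈ gensSub prev
        have h3 := eqW_el (hcj j hj)
        rw [List.getD_eq_getElem _ _ hj, el_append, el_append, el_reverse hw7] at h3
        rw [mul_assoc, h3]
        exact el_comp_mem hgen _
      exact fun g hg => this hg
    have h3 := isPGroup_sup_zpowers hP h1 h2
    rw [← gensSub_append] at h3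
    have := ih (prev ++ [w]) hrest h3
    rwa [List.append_assoc] at this

theorem pc_isPGroup' {p : ℕ} [Fact p.Prime] {ls : List (List ℕ × List ℕ × List (List ℕ))}
    (h : pcOK p ls [] = true) : IsPGroup p (gensSub (ls.map (·.1))) := by
  have := pc_isPGroup ls [] h (by
    rw [show gensSub [] = ⊥ from le_bot_iff.mp (gensSub_le fun v hv => absurd hv List.not_mem_nil)]
    exact IsPGroup.of_bot)
  simpa using this

end H57.SUZ
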